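import Cfsg.Agent.Lib.Fi24.Points

/-! Checks of the certificate, part 0. -/

set_option autoImplicit false
set_option maxRecDepth 20000
set_option Elab.async false

namespace Cfsg.Agent.Lib.Fi24

open Cfsg.Agent.Lib.CosetEnum (allBelow allFrom)

theorem points_part0 : allFrom 0 480 pointOk = true := by decide +kernel

theorem points_part1 : allFrom 480 480 pointOk = true := by decide +kernel

theorem points_part2 : allFrom 960 480 pointOk = true := by decide +kernel

theorem points_part3 : allFrom 1440 480 pointOk = true := by decide +kernel

theorem points_part4 : allFrom 1920 480 pointOk = true := by decide +kernel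

theorem points_part5 : allFrom 2400 480 pointOk = true := by decide +kernel

theorem points_part6 : allFrom 2880 480 pointOk = true := by decide +kernel

theorem points_part7 : allFrom 3360 480 pointOk = true := by decide +kernel

theorem points_part8 : allFrom 3840 480 pointOk = true := by decide +kernel

theorem points_part9 : allFrom 4320 480 pointOk = true := by decide +kernel

theorem points_part10 : allFrom 4800 480 pointOk = true := by decide +kernel

theorem points_part11 : allFrom 5280 480 pointOk = true := by decide +kernel

theorem points_part12 : allFrom 5760 480 pointOk = true := by decide +kernel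

theorem points_part13 : allFrom 6240 480 pointOk = true := by decide +kernel

theorem points_part14 : allFrom 6720 480 pointOk = true := by decide +kernel

theorem points_part15 : allFrom 7200 480 pointOk = true := by decide +kernel

/-- The points checked in this file. -/
theorem range0 : ∀ i, 0 ≤ i → i < 7680 → pointOk i = true := by
  intro i h1 h2
  by_cases h : i < 480
  · exact CosetEnum.allFrom_iff.1 points_part0 i (by omega) (by omega)
  by_cases h : i < 960
  · exact CosetEnum.allFrom_iff.1 points_part1 i (by omega) (by omega)
  by_cases h : i < 1440
  · exact CosetEnum.allFrom_iff.1 points_part2 i (by omega) (by omega)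
  by_cases h : i < 1920
  · exact CosetEnum.allFrom_iff.1 points_part3 i (by omega) (by omega)
  by_cases h : i < 2400
  · exact CosetEnum.allFrom_iff.1 points_part4 i (by omega) (by omega)
  by_cases h : i < 2880
  · exact CosetEnum.allFrom_iff.1 points_part5 i (by omega) (by omega)
  by_cases h : i < 3360
  · exact CosetEnum.allFrom_iff.1 points_part6 i (by omega) (by omega)
  by_cases h : i < 3840
  · exact CosetEnum.allFrom_iff.1 points_part7 i (by omega) (by omega)
  by_cases h : i < 4320
  · exact CosetEnum.allFrom_iff.1 points_part8 i (by omega) (by omega)
  by_cases h : i < 4800
  · exact CosetEnum.allFrom_iff.1 points_part9 i (by omega) (by omega)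
  by_cases h : i < 5280
  · exact CosetEnum.allFrom_iff.1 points_part10 i (by omega) (by omega)
  by_cases h : i < 5760
  · exact CosetEnum.allFrom_iff.1 points_part11 i (by omega) (by omega)
  by_cases h : i < 6240
  · exact CosetEnum.allFrom_iff.1 points_part12 i (by omega) (by omega)
  by_cases h : i < 6720
  · exact CosetEnum.allFrom_iff.1 points_part13 i (by omega) (by omega)
  by_cases h : i < 7200
  · exact CosetEnum.allFrom_iff.1 points_part14 i (by omega) (by omega)
  exact CosetEnum.allFrom_iff.1 points_part15 i (by omega) (by omega)

end Cfsg.Agent.Lib.Fi24
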