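import Cfsg.Agent.Lib.Fi24.Points

/-! Checks of the certificate, part 1. -/

set_option autoImplicit false
set_option maxRecDepth 20000
set_option Elab.async false

namespace Cfsg.Agent.Lib.Fi24

open Cfsg.Agent.Lib.CosetEnum (allBelow allFrom)

theorem points_part16 : allFrom 7680 480 pointOk = true := by decide +kernel

theorem points_part17 : allFrom 8160 480 pointOk = true := by decide +kernel

theorem points_part18 : allFrom 8640 480 pointOk = true := by decide +kernel

theorem points_part19 : allFrom 9120 480 pointOk = true := by decide +kernel

theorem points_part20 : allFrom 9600 480 pointOk = true := by decide +kernel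

theorem points_part21 : allFrom 10080 480 pointOk = true := by decide +kernel

theorem points_part22 : allFrom 10560 480 pointOk = true := by decide +kernel

theorem points_part23 : allFrom 11040 480 pointOk = true := by decide +kernel

theorem points_part24 : allFrom 11520 480 pointOk = true := by decide +kernel

theorem points_part25 : allFrom 12000 480 pointOk = true := by decide +kernel

theorem points_part26 : allFrom 12480 480 pointOk = true := by decide +kernel

theorem points_part27 : allFrom 12960 480 pointOk = true := by decide +kernel

theorem points_part28 : allFrom 13440 480 pointOk = true := by decide +kernel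

theorem points_part29 : allFrom 13920 480 pointOk = true := by decide +kernel

theorem points_part30 : allFrom 14400 480 pointOk = true := by decide +kernel

theorem points_part31 : allFrom 14880 480 pointOk = true := by decide +kernel

/-- The points checked in this file. -/
theorem range1 : ∀ i, 7680 ≤ i → i < 15360 → pointOk i = true := by
  intro i h1 h2
  by_cases h : i < 8160
  · exact CosetEnum.allFrom_iff.1 points_part16 i (by omega) (by omega)
  by_cases h : i < 8640
  · exact CosetEnum.allFrom_iff.1 points_part17 i (by omega) (by omega)
  by_cases h : i < 9120
  · exact CosetEnum.allFrom_iff.1 points_part18 i (by omega) (by omega)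
  by_cases h : i < 9600
  · exact CosetEnum.allFrom_iff.1 points_part19 i (by omega) (by omega)
  by_cases h : i < 10080
  · exact CosetEnum.allFrom_iff.1 points_part20 i (by omega) (by omega)
  by_cases h : i < 10560
  · exact CosetEnum.allFrom_iff.1 points_part21 i (by omega) (by omega)
  by_cases h : i < 11040
  · exact CosetEnum.allFrom_iff.1 points_part22 i (by omega) (by omega)
  by_cases h : i < 11520
  · exact CosetEnum.allFrom_iff.1 points_part23 i (by omega) (by omega)
  by_cases h : i < 12000
  · exact CosetEnum.allFrom_iff.1 points_part24 i (by omega) (by omega)
  by_cases h : i < 12480
  · exact CosetEnum.allFrom_iff.1 points_part25 i (by omega) (by omega)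
  by_cases h : i < 12960
  · exact CosetEnum.allFrom_iff.1 points_part26 i (by omega) (by omega)
  by_cases h : i < 13440
  · exact CosetEnum.allFrom_iff.1 points_part27 i (by omega) (by omega)
  by_cases h : i < 13920
  · exact CosetEnum.allFrom_iff.1 points_part28 i (by omega) (by omega)
  by_cases h : i < 14400
  · exact CosetEnum.allFrom_iff.1 points_part29 i (by omega) (by omega)
  by_cases h : i < 14880
  · exact CosetEnum.allFrom_iff.1 points_part30 i (by omega) (by omega)
  exact CosetEnum.allFrom_iff.1 points_part31 i (by omega) (by omega)

end Cfsg.Agent.Lib.Fi24
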