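import Cfsg.Agent.Lib.Fi24.Points

/-! Checks of the certificate, part 10. -/

set_option autoImplicit false
set_option maxRecDepth 20000
set_option Elab.async false

namespace Cfsg.Agent.Lib.Fi24

open Cfsg.Agent.Lib.CosetEnum (allBelow allFrom)

theorem points_part160 : allFrom 76800 480 pointOk = true := by decide +kernel

theorem points_part161 : allFrom 77280 480 pointOk = true := by decide +kernel

theorem points_part162 : allFrom 77760 480 pointOk = true := by decide +kernel

theorem points_part163 : allFrom 78240 480 pointOk = true := by decide +kernel

theorem points_part164 : allFrom 78720 480 pointOk = true := by decide +kernel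

theorem points_part165 : allFrom 79200 480 pointOk = true := by decide +kernel

theorem points_part166 : allFrom 79680 480 pointOk = true := by decide +kernel

theorem points_part167 : allFrom 80160 480 pointOk = true := by decide +kernel

theorem points_part168 : allFrom 80640 480 pointOk = true := by decide +kernel

theorem points_part169 : allFrom 81120 480 pointOk = true := by decide +kernel

theorem points_part170 : allFrom 81600 480 pointOk = true := by decide +kernel

theorem points_part171 : allFrom 82080 480 pointOk = true := by decide +kernel

theorem points_part172 : allFrom 82560 480 pointOk = true := by decide +kernel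

theorem points_part173 : allFrom 83040 480 pointOk = true := by decide +kernel

theorem points_part174 : allFrom 83520 480 pointOk = true := by decide +kernel

theorem points_part175 : allFrom 84000 480 pointOk = true := by decide +kernel

/-- The points checked in this file. -/
theorem range10 : ∀ i, 76800 ≤ i → i < 84480 → pointOk i = true := by
  intro i h1 h2
  by_cases h : i < 77280
  · exact CosetEnum.allFrom_iff.1 points_part160 i (by omega) (by omega)
  by_cases h : i < 77760
  · exact CosetEnum.allFrom_iff.1 points_part161 i (by omega) (by omega)
  by_cases h : i < 78240
  · exact CosetEnum.allFrom_iff.1 points_part162 i (by omega) (by omega)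
  by_cases h : i < 78720
  · exact CosetEnum.allFrom_iff.1 points_part163 i (by omega) (by omega)
  by_cases h : i < 79200
  · exact CosetEnum.allFrom_iff.1 points_part164 i (by omega) (by omega)
  by_cases h : i < 79680
  · exact CosetEnum.allFrom_iff.1 points_part165 i (by omega) (by omega)
  by_cases h : i < 80160
  · exact CosetEnum.allFrom_iff.1 points_part166 i (by omega) (by omega)
  by_cases h : i < 80640
  · exact CosetEnum.allFrom_iff.1 points_part167 i (by omega) (by omega)
  by_cases h : i < 81120
  · exact CosetEnum.allFrom_iff.1 points_part168 i (by omega) (by omega)
  by_cases h : i < 81600
  · exact CosetEnum.allFrom_iff.1 points_part169 i (by omega) (by omega)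
  by_cases h : i < 82080
  · exact CosetEnum.allFrom_iff.1 points_part170 i (by omega) (by omega)
  by_cases h : i < 82560
  · exact CosetEnum.allFrom_iff.1 points_part171 i (by omega) (by omega)
  by_cases h : i < 83040
  · exact CosetEnum.allFrom_iff.1 points_part172 i (by omega) (by omega)
  by_cases h : i < 83520
  · exact CosetEnum.allFrom_iff.1 points_part173 i (by omega) (by omega)
  by_cases h : i < 84000
  · exact CosetEnum.allFrom_iff.1 points_part174 i (by omega) (by omega)
  exact CosetEnum.allFrom_iff.1 points_part175 i (by omega) (by omega)

end Cfsg.Agent.Lib.Fi24
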