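import Cfsg.Agent.Lib.Fi24.Points

/-! Checks of the certificate, part 11. -/

set_option autoImplicit false
set_option maxRecDepth 20000
set_option Elab.async false

namespace Cfsg.Agent.Lib.Fi24

open Cfsg.Agent.Lib.CosetEnum (allBelow allFrom)

theorem points_part176 : allFrom 84480 480 pointOk = true := by decide +kernel

theorem points_part177 : allFrom 84960 480 pointOk = true := by decide +kernel

theorem points_part178 : allFrom 85440 480 pointOk = true := by decide +kernel

theorem points_part179 : allFrom 85920 480 pointOk = true := by decide +kernel

theorem points_part180 : allFrom 86400 480 pointOk = true := by decide +kernel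

theorem points_part181 : allFrom 86880 480 pointOk = true := by decide +kernel

theorem points_part182 : allFrom 87360 480 pointOk = true := by decide +kernel

theorem points_part183 : allFrom 87840 480 pointOk = true := by decide +kernel

theorem points_part184 : allFrom 88320 480 pointOk = true := by decide +kernel

theorem points_part185 : allFrom 88800 480 pointOk = true := by decide +kernel

theorem points_part186 : allFrom 89280 480 pointOk = true := by decide +kernel

theorem points_part187 : allFrom 89760 480 pointOk = true := by decide +kernel

theorem points_part188 : allFrom 90240 480 pointOk = true := by decide +kernel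

theorem points_part189 : allFrom 90720 480 pointOk = true := by decide +kernel

theorem points_part190 : allFrom 91200 480 pointOk = true := by decide +kernel

theorem points_part191 : allFrom 91680 480 pointOk = true := by decide +kernel

/-- The points checked in this file. -/
theorem range11 : ∀ i, 84480 ≤ i → i < 92160 → pointOk i = true := by
  intro i h1 h2
  by_cases h : i < 84960
  · exact CosetEnum.allFrom_iff.1 points_part176 i (by omega) (by omega)
  by_cases h : i < 85440
  · exact CosetEnum.allFrom_iff.1 points_part177 i (by omega) (by omega)
  by_cases h : i < 85920
  · exact CosetEnum.allFrom_iff.1 points_part178 i (by omega) (by omega)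
  by_cases h : i < 86400
  · exact CosetEnum.allFrom_iff.1 points_part179 i (by omega) (by omega)
  by_cases h : i < 86880
  · exact CosetEnum.allFrom_iff.1 points_part180 i (by omega) (by omega)
  by_cases h : i < 87360
  · exact CosetEnum.allFrom_iff.1 points_part181 i (by omega) (by omega)
  by_cases h : i < 87840
  · exact CosetEnum.allFrom_iff.1 points_part182 i (by omega) (by omega)
  by_cases h : i < 88320
  · exact CosetEnum.allFrom_iff.1 points_part183 i (by omega) (by omega)
  by_cases h : i < 88800
  · exact CosetEnum.allFrom_iff.1 points_part184 i (by omega) (by omega)
  by_cases h : i < 89280
  · exact CosetEnum.allFrom_iff.1 points_part185 i (by omega) (by omega)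
  by_cases h : i < 89760
  · exact CosetEnum.allFrom_iff.1 points_part186 i (by omega) (by omega)
  by_cases h : i < 90240
  · exact CosetEnum.allFrom_iff.1 points_part187 i (by omega) (by omega)
  by_cases h : i < 90720
  · exact CosetEnum.allFrom_iff.1 points_part188 i (by omega) (by omega)
  by_cases h : i < 91200
  · exact CosetEnum.allFrom_iff.1 points_part189 i (by omega) (by omega)
  by_cases h : i < 91680
  · exact CosetEnum.allFrom_iff.1 points_part190 i (by omega) (by omega)
  exact CosetEnum.allFrom_iff.1 points_part191 i (by omega) (by omega)

end Cfsg.Agent.Lib.Fi24
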