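import Cfsg.Agent.Lib.Fi24.Points

/-! Checks of the certificate, part 12. -/

set_option autoImplicit false
set_option maxRecDepth 20000
set_option Elab.async false

namespace Cfsg.Agent.Lib.Fi24

open Cfsg.Agent.Lib.CosetEnum (allBelow allFrom)

theorem points_part192 : allFrom 92160 480 pointOk = true := by decide +kernel

theorem points_part193 : allFrom 92640 480 pointOk = true := by decide +kernel

theorem points_part194 : allFrom 93120 480 pointOk = true := by decide +kernel

theorem points_part195 : allFrom 93600 480 pointOk = true := by decide +kernel

theorem points_part196 : allFrom 94080 480 pointOk = true := by decide +kernel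

theorem points_part197 : allFrom 94560 480 pointOk = true := by decide +kernel

theorem points_part198 : allFrom 95040 480 pointOk = true := by decide +kernel

theorem points_part199 : allFrom 95520 480 pointOk = true := by decide +kernel

theorem points_part200 : allFrom 96000 480 pointOk = true := by decide +kernel

theorem points_part201 : allFrom 96480 480 pointOk = true := by decide +kernel

theorem points_part202 : allFrom 96960 480 pointOk = true := by decide +kernel

theorem points_part203 : allFrom 97440 480 pointOk = true := by decide +kernel

theorem points_part204 : allFrom 97920 480 pointOk = true := by decide +kernel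

theorem points_part205 : allFrom 98400 480 pointOk = true := by decide +kernel

theorem points_part206 : allFrom 98880 480 pointOk = true := by decide +kernel

theorem points_part207 : allFrom 99360 480 pointOk = true := by decide +kernel

/-- The points checked in this file. -/
theorem range12 : ∀ i, 92160 ≤ i → i < 99840 → pointOk i = true := by
  intro i h1 h2
  by_cases h : i < 92640
  · exact CosetEnum.allFrom_iff.1 points_part192 i (by omega) (by omega)
  by_cases h : i < 93120
  · exact CosetEnum.allFrom_iff.1 points_part193 i (by omega) (by omega)
  by_cases h : i < 93600
  · exact CosetEnum.allFrom_iff.1 points_part194 i (by omega) (by omega)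
  by_cases h : i < 94080
  · exact CosetEnum.allFrom_iff.1 points_part195 i (by omega) (by omega)
  by_cases h : i < 94560
  · exact CosetEnum.allFrom_iff.1 points_part196 i (by omega) (by omega)
  by_cases h : i < 95040
  · exact CosetEnum.allFrom_iff.1 points_part197 i (by omega) (by omega)
  by_cases h : i < 95520
  · exact CosetEnum.allFrom_iff.1 points_part198 i (by omega) (by omega)
  by_cases h : i < 96000
  · exact CosetEnum.allFrom_iff.1 points_part199 i (by omega) (by omega)
  by_cases h : i < 96480
  · exact CosetEnum.allFrom_iff.1 points_part200 i (by omega) (by omega)
  by_cases h : i < 96960
  · exact CosetEnum.allFrom_iff.1 points_part201 i (by omega) (by omega)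
  by_cases h : i < 97440
  · exact CosetEnum.allFrom_iff.1 points_part202 i (by omega) (by omega)
  by_cases h : i < 97920
  · exact CosetEnum.allFrom_iff.1 points_part203 i (by omega) (by omega)
  by_cases h : i < 98400
  · exact CosetEnum.allFrom_iff.1 points_part204 i (by omega) (by omega)
  by_cases h : i < 98880
  · exact CosetEnum.allFrom_iff.1 points_part205 i (by omega) (by omega)
  by_cases h : i < 99360
  · exact CosetEnum.allFrom_iff.1 points_part206 i (by omega) (by omega)
  exact CosetEnum.allFrom_iff.1 points_part207 i (by omega) (by omega)

end Cfsg.Agent.Lib.Fi24
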