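import Cfsg.Agent.Lib.Fi24.Points

/-! Checks of the certificate, part 13. -/

set_option autoImplicit false
set_option maxRecDepth 20000
set_option Elab.async false

namespace Cfsg.Agent.Lib.Fi24

open Cfsg.Agent.Lib.CosetEnum (allBelow allFrom)

theorem points_part208 : allFrom 99840 480 pointOk = true := by decide +kernel

theorem points_part209 : allFrom 100320 480 pointOk = true := by decide +kernel

theorem points_part210 : allFrom 100800 480 pointOk = true := by decide +kernel

theorem points_part211 : allFrom 101280 480 pointOk = true := by decide +kernel

theorem points_part212 : allFrom 101760 480 pointOk = true := by decide +kernel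

theorem points_part213 : allFrom 102240 480 pointOk = true := by decide +kernel

theorem points_part214 : allFrom 102720 480 pointOk = true := by decide +kernel

theorem points_part215 : allFrom 103200 480 pointOk = true := by decide +kernel

theorem points_part216 : allFrom 103680 480 pointOk = true := by decide +kernel

theorem points_part217 : allFrom 104160 480 pointOk = true := by decide +kernel

theorem points_part218 : allFrom 104640 480 pointOk = true := by decide +kernel

theorem points_part219 : allFrom 105120 480 pointOk = true := by decide +kernel

theorem points_part220 : allFrom 105600 480 pointOk = true := by decide +kernel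

theorem points_part221 : allFrom 106080 480 pointOk = true := by decide +kernel

theorem points_part222 : allFrom 106560 480 pointOk = true := by decide +kernel

theorem points_part223 : allFrom 107040 480 pointOk = true := by decide +kernel

/-- The points checked in this file. -/
theorem range13 : ∀ i, 99840 ≤ i → i < 107520 → pointOk i = true := by
  intro i h1 h2
  by_cases h : i < 100320
  · exact CosetEnum.allFrom_iff.1 points_part208 i (by omega) (by omega)
  by_cases h : i < 100800
  · exact CosetEnum.allFrom_iff.1 points_part209 i (by omega) (by omega)
  by_cases h : i < 101280
  · exact CosetEnum.allFrom_iff.1 points_part210 i (by omega) (by omega)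
  by_cases h : i < 101760
  · exact CosetEnum.allFrom_iff.1 points_part211 i (by omega) (by omega)
  by_cases h : i < 102240
  · exact CosetEnum.allFrom_iff.1 points_part212 i (by omega) (by omega)
  by_cases h : i < 102720
  · exact CosetEnum.allFrom_iff.1 points_part213 i (by omega) (by omega)
  by_cases h : i < 103200
  · exact CosetEnum.allFrom_iff.1 points_part214 i (by omega) (by omega)
  by_cases h : i < 103680
  · exact CosetEnum.allFrom_iff.1 points_part215 i (by omega) (by omega)
  by_cases h : i < 104160
  · exact CosetEnum.allFrom_iff.1 points_part216 i (by omega) (by omega)
  by_cases h : i < 104640
  · exact CosetEnum.allFrom_iff.1 points_part217 i (by omega) (by omega)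
  by_cases h : i < 105120
  · exact CosetEnum.allFrom_iff.1 points_part218 i (by omega) (by omega)
  by_cases h : i < 105600
  · exact CosetEnum.allFrom_iff.1 points_part219 i (by omega) (by omega)
  by_cases h : i < 106080
  · exact CosetEnum.allFrom_iff.1 points_part220 i (by omega) (by omega)
  by_cases h : i < 106560
  · exact CosetEnum.allFrom_iff.1 points_part221 i (by omega) (by omega)
  by_cases h : i < 107040
  · exact CosetEnum.allFrom_iff.1 points_part222 i (by omega) (by omega)
  exact CosetEnum.allFrom_iff.1 points_part223 i (by omega) (by omega)

end Cfsg.Agent.Lib.Fi24
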