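import Cfsg.Agent.Lib.Fi24.Points

/-! Checks of the certificate, part 14. -/

set_option autoImplicit false
set_option maxRecDepth 20000
set_option Elab.async false

namespace Cfsg.Agent.Lib.Fi24

open Cfsg.Agent.Lib.CosetEnum (allBelow allFrom)

theorem points_part224 : allFrom 107520 480 pointOk = true := by decide +kernel

theorem points_part225 : allFrom 108000 480 pointOk = true := by decide +kernel

theorem points_part226 : allFrom 108480 480 pointOk = true := by decide +kernel

theorem points_part227 : allFrom 108960 480 pointOk = true := by decide +kernel

theorem points_part228 : allFrom 109440 480 pointOk = true := by decide +kernel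

theorem points_part229 : allFrom 109920 480 pointOk = true := by decide +kernel

theorem points_part230 : allFrom 110400 480 pointOk = true := by decide +kernel

theorem points_part231 : allFrom 110880 480 pointOk = true := by decide +kernel

theorem points_part232 : allFrom 111360 480 pointOk = true := by decide +kernel

theorem points_part233 : allFrom 111840 480 pointOk = true := by decide +kernel

theorem points_part234 : allFrom 112320 480 pointOk = true := by decide +kernel

theorem points_part235 : allFrom 112800 480 pointOk = true := by decide +kernel

theorem points_part236 : allFrom 113280 480 pointOk = true := by decide +kernel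

theorem points_part237 : allFrom 113760 480 pointOk = true := by decide +kernel

theorem points_part238 : allFrom 114240 480 pointOk = true := by decide +kernel

theorem points_part239 : allFrom 114720 480 pointOk = true := by decide +kernel

/-- The points checked in this file. -/
theorem range14 : ∀ i, 107520 ≤ i → i < 115200 → pointOk i = true := by
  intro i h1 h2
  by_cases h : i < 108000
  · exact CosetEnum.allFrom_iff.1 points_part224 i (by omega) (by omega)
  by_cases h : i < 108480
  · exact CosetEnum.allFrom_iff.1 points_part225 i (by omega) (by omega)
  by_cases h : i < 108960
  · exact CosetEnum.allFrom_iff.1 points_part226 i (by omega) (by omega)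
  by_cases h : i < 109440
  · exact CosetEnum.allFrom_iff.1 points_part227 i (by omega) (by omega)
  by_cases h : i < 109920
  · exact CosetEnum.allFrom_iff.1 points_part228 i (by omega) (by omega)
  by_cases h : i < 110400
  · exact CosetEnum.allFrom_iff.1 points_part229 i (by omega) (by omega)
  by_cases h : i < 110880
  · exact CosetEnum.allFrom_iff.1 points_part230 i (by omega) (by omega)
  by_cases h : i < 111360
  · exact CosetEnum.allFrom_iff.1 points_part231 i (by omega) (by omega)
  by_cases h : i < 111840
  · exact CosetEnum.allFrom_iff.1 points_part232 i (by omega) (by omega)
  by_cases h : i < 112320
  · exact CosetEnum.allFrom_iff.1 points_part233 i (by omega) (by omega)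
  by_cases h : i < 112800
  · exact CosetEnum.allFrom_iff.1 points_part234 i (by omega) (by omega)
  by_cases h : i < 113280
  · exact CosetEnum.allFrom_iff.1 points_part235 i (by omega) (by omega)
  by_cases h : i < 113760
  · exact CosetEnum.allFrom_iff.1 points_part236 i (by omega) (by omega)
  by_cases h : i < 114240
  · exact CosetEnum.allFrom_iff.1 points_part237 i (by omega) (by omega)
  by_cases h : i < 114720
  · exact CosetEnum.allFrom_iff.1 points_part238 i (by omega) (by omega)
  exact CosetEnum.allFrom_iff.1 points_part239 i (by omega) (by omega)

end Cfsg.Agent.Lib.Fi24
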