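import Cfsg.Agent.Lib.Fi24.Points

/-! Checks of the certificate, part 15. -/

set_option autoImplicit false
set_option maxRecDepth 20000
set_option Elab.async false

namespace Cfsg.Agent.Lib.Fi24

open Cfsg.Agent.Lib.CosetEnum (allBelow allFrom)

theorem points_part240 : allFrom 115200 480 pointOk = true := by decide +kernel

theorem points_part241 : allFrom 115680 480 pointOk = true := by decide +kernel

theorem points_part242 : allFrom 116160 480 pointOk = true := by decide +kernel

theorem points_part243 : allFrom 116640 480 pointOk = true := by decide +kernel

theorem points_part244 : allFrom 117120 480 pointOk = true := by decide +kernel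

theorem points_part245 : allFrom 117600 480 pointOk = true := by decide +kernel

theorem points_part246 : allFrom 118080 480 pointOk = true := by decide +kernel

theorem points_part247 : allFrom 118560 480 pointOk = true := by decide +kernel

theorem points_part248 : allFrom 119040 480 pointOk = true := by decide +kernel

theorem points_part249 : allFrom 119520 480 pointOk = true := by decide +kernel

theorem points_part250 : allFrom 120000 480 pointOk = true := by decide +kernel

theorem points_part251 : allFrom 120480 480 pointOk = true := by decide +kernel

theorem points_part252 : allFrom 120960 480 pointOk = true := by decide +kernel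

theorem points_part253 : allFrom 121440 480 pointOk = true := by decide +kernel

theorem points_part254 : allFrom 121920 480 pointOk = true := by decide +kernel

theorem points_part255 : allFrom 122400 480 pointOk = true := by decide +kernel

/-- The points checked in this file. -/
theorem range15 : ∀ i, 115200 ≤ i → i < 122880 → pointOk i = true := by
  intro i h1 h2
  by_cases h : i < 115680
  · exact CosetEnum.allFrom_iff.1 points_part240 i (by omega) (by omega)
  by_cases h : i < 116160
  · exact CosetEnum.allFrom_iff.1 points_part241 i (by omega) (by omega)
  by_cases h : i < 116640
  · exact CosetEnum.allFrom_iff.1 points_part242 i (by omega) (by omega)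
  by_cases h : i < 117120
  · exact CosetEnum.allFrom_iff.1 points_part243 i (by omega) (by omega)
  by_cases h : i < 117600
  · exact CosetEnum.allFrom_iff.1 points_part244 i (by omega) (by omega)
  by_cases h : i < 118080
  · exact CosetEnum.allFrom_iff.1 points_part245 i (by omega) (by omega)
  by_cases h : i < 118560
  · exact CosetEnum.allFrom_iff.1 points_part246 i (by omega) (by omega)
  by_cases h : i < 119040
  · exact CosetEnum.allFrom_iff.1 points_part247 i (by omega) (by omega)
  by_cases h : i < 119520
  · exact CosetEnum.allFrom_iff.1 points_part248 i (by omega) (by omega)
  by_cases h : i < 120000
  · exact CosetEnum.allFrom_iff.1 points_part249 i (by omega) (by omega)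
  by_cases h : i < 120480
  · exact CosetEnum.allFrom_iff.1 points_part250 i (by omega) (by omega)
  by_cases h : i < 120960
  · exact CosetEnum.allFrom_iff.1 points_part251 i (by omega) (by omega)
  by_cases h : i < 121440
  · exact CosetEnum.allFrom_iff.1 points_part252 i (by omega) (by omega)
  by_cases h : i < 121920
  · exact CosetEnum.allFrom_iff.1 points_part253 i (by omega) (by omega)
  by_cases h : i < 122400
  · exact CosetEnum.allFrom_iff.1 points_part254 i (by omega) (by omega)
  exact CosetEnum.allFrom_iff.1 points_part255 i (by omega) (by omega)

end Cfsg.Agent.Lib.Fi24
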