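import Cfsg.Agent.Lib.Fi24.Points

/-! Checks of the certificate, part 16. -/

set_option autoImplicit false
set_option maxRecDepth 20000
set_option Elab.async false

namespace Cfsg.Agent.Lib.Fi24

open Cfsg.Agent.Lib.CosetEnum (allBelow allFrom)

theorem points_part256 : allFrom 122880 480 pointOk = true := by decide +kernel

theorem points_part257 : allFrom 123360 480 pointOk = true := by decide +kernel

theorem points_part258 : allFrom 123840 480 pointOk = true := by decide +kernel

theorem points_part259 : allFrom 124320 480 pointOk = true := by decide +kernel

theorem points_part260 : allFrom 124800 480 pointOk = true := by decide +kernel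

theorem points_part261 : allFrom 125280 480 pointOk = true := by decide +kernel

theorem points_part262 : allFrom 125760 480 pointOk = true := by decide +kernel

theorem points_part263 : allFrom 126240 480 pointOk = true := by decide +kernel

theorem points_part264 : allFrom 126720 480 pointOk = true := by decide +kernel

theorem points_part265 : allFrom 127200 480 pointOk = true := by decide +kernel

theorem points_part266 : allFrom 127680 480 pointOk = true := by decide +kernel

theorem points_part267 : allFrom 128160 480 pointOk = true := by decide +kernel

theorem points_part268 : allFrom 128640 480 pointOk = true := by decide +kernel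

theorem points_part269 : allFrom 129120 480 pointOk = true := by decide +kernel

theorem points_part270 : allFrom 129600 480 pointOk = true := by decide +kernel

theorem points_part271 : allFrom 130080 480 pointOk = true := by decide +kernel

/-- The points checked in this file. -/
theorem range16 : ∀ i, 122880 ≤ i → i < 130560 → pointOk i = true := by
  intro i h1 h2
  by_cases h : i < 123360
  · exact CosetEnum.allFrom_iff.1 points_part256 i (by omega) (by omega)
  by_cases h : i < 123840
  · exact CosetEnum.allFrom_iff.1 points_part257 i (by omega) (by omega)
  by_cases h : i < 124320
  · exact CosetEnum.allFrom_iff.1 points_part258 i (by omega) (by omega)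
  by_cases h : i < 124800
  · exact CosetEnum.allFrom_iff.1 points_part259 i (by omega) (by omega)
  by_cases h : i < 125280
  · exact CosetEnum.allFrom_iff.1 points_part260 i (by omega) (by omega)
  by_cases h : i < 125760
  · exact CosetEnum.allFrom_iff.1 points_part261 i (by omega) (by omega)
  by_cases h : i < 126240
  · exact CosetEnum.allFrom_iff.1 points_part262 i (by omega) (by omega)
  by_cases h : i < 126720
  · exact CosetEnum.allFrom_iff.1 points_part263 i (by omega) (by omega)
  by_cases h : i < 127200
  · exact CosetEnum.allFrom_iff.1 points_part264 i (by omega) (by omega)
  by_cases h : i < 127680
  · exact CosetEnum.allFrom_iff.1 points_part265 i (by omega) (by omega)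
  by_cases h : i < 128160
  · exact CosetEnum.allFrom_iff.1 points_part266 i (by omega) (by omega)
  by_cases h : i < 128640
  · exact CosetEnum.allFrom_iff.1 points_part267 i (by omega) (by omega)
  by_cases h : i < 129120
  · exact CosetEnum.allFrom_iff.1 points_part268 i (by omega) (by omega)
  by_cases h : i < 129600
  · exact CosetEnum.allFrom_iff.1 points_part269 i (by omega) (by omega)
  by_cases h : i < 130080
  · exact CosetEnum.allFrom_iff.1 points_part270 i (by omega) (by omega)
  exact CosetEnum.allFrom_iff.1 points_part271 i (by omega) (by omega)

end Cfsg.Agent.Lib.Fi24
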