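import Cfsg.Agent.Lib.Fi24.Points

/-! Checks of the certificate, part 17. -/

set_option autoImplicit false
set_option maxRecDepth 20000
set_option Elab.async false

namespace Cfsg.Agent.Lib.Fi24

open Cfsg.Agent.Lib.CosetEnum (allBelow allFrom)

theorem points_part272 : allFrom 130560 480 pointOk = true := by decide +kernel

theorem points_part273 : allFrom 131040 480 pointOk = true := by decide +kernel

theorem points_part274 : allFrom 131520 480 pointOk = true := by decide +kernel

theorem points_part275 : allFrom 132000 480 pointOk = true := by decide +kernel

theorem points_part276 : allFrom 132480 480 pointOk = true := by decide +kernel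

theorem points_part277 : allFrom 132960 480 pointOk = true := by decide +kernel

theorem points_part278 : allFrom 133440 480 pointOk = true := by decide +kernel

theorem points_part279 : allFrom 133920 480 pointOk = true := by decide +kernel

theorem points_part280 : allFrom 134400 480 pointOk = true := by decide +kernel

theorem points_part281 : allFrom 134880 480 pointOk = true := by decide +kernel

theorem points_part282 : allFrom 135360 480 pointOk = true := by decide +kernel

theorem points_part283 : allFrom 135840 480 pointOk = true := by decide +kernel

theorem points_part284 : allFrom 136320 480 pointOk = true := by decide +kernel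

theorem points_part285 : allFrom 136800 480 pointOk = true := by decide +kernel

theorem points_part286 : allFrom 137280 480 pointOk = true := by decide +kernel

theorem points_part287 : allFrom 137760 480 pointOk = true := by decide +kernel

/-- The points checked in this file. -/
theorem range17 : ∀ i, 130560 ≤ i → i < 138240 → pointOk i = true := by
  intro i h1 h2
  by_cases h : i < 131040
  · exact CosetEnum.allFrom_iff.1 points_part272 i (by omega) (by omega)
  by_cases h : i < 131520
  · exact CosetEnum.allFrom_iff.1 points_part273 i (by omega) (by omega)
  by_cases h : i < 132000
  · exact CosetEnum.allFrom_iff.1 points_part274 i (by omega) (by omega)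
  by_cases h : i < 132480
  · exact CosetEnum.allFrom_iff.1 points_part275 i (by omega) (by omega)
  by_cases h : i < 132960
  · exact CosetEnum.allFrom_iff.1 points_part276 i (by omega) (by omega)
  by_cases h : i < 133440
  · exact CosetEnum.allFrom_iff.1 points_part277 i (by omega) (by omega)
  by_cases h : i < 133920
  · exact CosetEnum.allFrom_iff.1 points_part278 i (by omega) (by omega)
  by_cases h : i < 134400
  · exact CosetEnum.allFrom_iff.1 points_part279 i (by omega) (by omega)
  by_cases h : i < 134880
  · exact CosetEnum.allFrom_iff.1 points_part280 i (by omega) (by omega)
  by_cases h : i < 135360
  · exact CosetEnum.allFrom_iff.1 points_part281 i (by omega) (by omega)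
  by_cases h : i < 135840
  · exact CosetEnum.allFrom_iff.1 points_part282 i (by omega) (by omega)
  by_cases h : i < 136320
  · exact CosetEnum.allFrom_iff.1 points_part283 i (by omega) (by omega)
  by_cases h : i < 136800
  · exact CosetEnum.allFrom_iff.1 points_part284 i (by omega) (by omega)
  by_cases h : i < 137280
  · exact CosetEnum.allFrom_iff.1 points_part285 i (by omega) (by omega)
  by_cases h : i < 137760
  · exact CosetEnum.allFrom_iff.1 points_part286 i (by omega) (by omega)
  exact CosetEnum.allFrom_iff.1 points_part287 i (by omega) (by omega)

end Cfsg.Agent.Lib.Fi24
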