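import Cfsg.Agent.Lib.Fi24.Points

/-! Checks of the certificate, part 18. -/

set_option autoImplicit false
set_option maxRecDepth 20000
set_option Elab.async false

namespace Cfsg.Agent.Lib.Fi24

open Cfsg.Agent.Lib.CosetEnum (allBelow allFrom)

theorem points_part288 : allFrom 138240 480 pointOk = true := by decide +kernel

theorem points_part289 : allFrom 138720 480 pointOk = true := by decide +kernel

theorem points_part290 : allFrom 139200 480 pointOk = true := by decide +kernel

theorem points_part291 : allFrom 139680 480 pointOk = true := by decide +kernel

theorem points_part292 : allFrom 140160 480 pointOk = true := by decide +kernel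

theorem points_part293 : allFrom 140640 480 pointOk = true := by decide +kernel

theorem points_part294 : allFrom 141120 480 pointOk = true := by decide +kernel

theorem points_part295 : allFrom 141600 480 pointOk = true := by decide +kernel

theorem points_part296 : allFrom 142080 480 pointOk = true := by decide +kernel

theorem points_part297 : allFrom 142560 480 pointOk = true := by decide +kernel

theorem points_part298 : allFrom 143040 480 pointOk = true := by decide +kernel

theorem points_part299 : allFrom 143520 480 pointOk = true := by decide +kernel

theorem points_part300 : allFrom 144000 480 pointOk = true := by decide +kernel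

theorem points_part301 : allFrom 144480 480 pointOk = true := by decide +kernel

theorem points_part302 : allFrom 144960 480 pointOk = true := by decide +kernel

theorem points_part303 : allFrom 145440 480 pointOk = true := by decide +kernel

/-- The points checked in this file. -/
theorem range18 : ∀ i, 138240 ≤ i → i < 145920 → pointOk i = true := by
  intro i h1 h2
  by_cases h : i < 138720
  · exact CosetEnum.allFrom_iff.1 points_part288 i (by omega) (by omega)
  by_cases h : i < 139200
  · exact CosetEnum.allFrom_iff.1 points_part289 i (by omega) (by omega)
  by_cases h : i < 139680
  · exact CosetEnum.allFrom_iff.1 points_part290 i (by omega) (by omega)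
  by_cases h : i < 140160
  · exact CosetEnum.allFrom_iff.1 points_part291 i (by omega) (by omega)
  by_cases h : i < 140640
  · exact CosetEnum.allFrom_iff.1 points_part292 i (by omega) (by omega)
  by_cases h : i < 141120
  · exact CosetEnum.allFrom_iff.1 points_part293 i (by omega) (by omega)
  by_cases h : i < 141600
  · exact CosetEnum.allFrom_iff.1 points_part294 i (by omega) (by omega)
  by_cases h : i < 142080
  · exact CosetEnum.allFrom_iff.1 points_part295 i (by omega) (by omega)
  by_cases h : i < 142560
  · exact CosetEnum.allFrom_iff.1 points_part296 i (by omega) (by omega)
  by_cases h : i < 143040
  · exact CosetEnum.allFrom_iff.1 points_part297 i (by omega) (by omega)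
  by_cases h : i < 143520
  · exact CosetEnum.allFrom_iff.1 points_part298 i (by omega) (by omega)
  by_cases h : i < 144000
  · exact CosetEnum.allFrom_iff.1 points_part299 i (by omega) (by omega)
  by_cases h : i < 144480
  · exact CosetEnum.allFrom_iff.1 points_part300 i (by omega) (by omega)
  by_cases h : i < 144960
  · exact CosetEnum.allFrom_iff.1 points_part301 i (by omega) (by omega)
  by_cases h : i < 145440
  · exact CosetEnum.allFrom_iff.1 points_part302 i (by omega) (by omega)
  exact CosetEnum.allFrom_iff.1 points_part303 i (by omega) (by omega)

end Cfsg.Agent.Lib.Fi24
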