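import Cfsg.Agent.Lib.Fi24.Points

/-! Checks of the certificate, part 19. -/

set_option autoImplicit false
set_option maxRecDepth 20000
set_option Elab.async false

namespace Cfsg.Agent.Lib.Fi24

open Cfsg.Agent.Lib.CosetEnum (allBelow allFrom)

theorem points_part304 : allFrom 145920 480 pointOk = true := by decide +kernel

theorem points_part305 : allFrom 146400 480 pointOk = true := by decide +kernel

theorem points_part306 : allFrom 146880 480 pointOk = true := by decide +kernel

theorem points_part307 : allFrom 147360 480 pointOk = true := by decide +kernel

theorem points_part308 : allFrom 147840 480 pointOk = true := by decide +kernel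

theorem points_part309 : allFrom 148320 480 pointOk = true := by decide +kernel

theorem points_part310 : allFrom 148800 480 pointOk = true := by decide +kernel

theorem points_part311 : allFrom 149280 480 pointOk = true := by decide +kernel

theorem points_part312 : allFrom 149760 480 pointOk = true := by decide +kernel

theorem points_part313 : allFrom 150240 480 pointOk = true := by decide +kernel

theorem points_part314 : allFrom 150720 480 pointOk = true := by decide +kernel

theorem points_part315 : allFrom 151200 480 pointOk = true := by decide +kernel

theorem points_part316 : allFrom 151680 480 pointOk = true := by decide +kernel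

theorem points_part317 : allFrom 152160 480 pointOk = true := by decide +kernel

theorem points_part318 : allFrom 152640 480 pointOk = true := by decide +kernel

theorem points_part319 : allFrom 153120 480 pointOk = true := by decide +kernel

/-- The points checked in this file. -/
theorem range19 : ∀ i, 145920 ≤ i → i < 153600 → pointOk i = true := by
  intro i h1 h2
  by_cases h : i < 146400
  · exact CosetEnum.allFrom_iff.1 points_part304 i (by omega) (by omega)
  by_cases h : i < 146880
  · exact CosetEnum.allFrom_iff.1 points_part305 i (by omega) (by omega)
  by_cases h : i < 147360
  · exact CosetEnum.allFrom_iff.1 points_part306 i (by omega) (by omega)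
  by_cases h : i < 147840
  · exact CosetEnum.allFrom_iff.1 points_part307 i (by omega) (by omega)
  by_cases h : i < 148320
  · exact CosetEnum.allFrom_iff.1 points_part308 i (by omega) (by omega)
  by_cases h : i < 148800
  · exact CosetEnum.allFrom_iff.1 points_part309 i (by omega) (by omega)
  by_cases h : i < 149280
  · exact CosetEnum.allFrom_iff.1 points_part310 i (by omega) (by omega)
  by_cases h : i < 149760
  · exact CosetEnum.allFrom_iff.1 points_part311 i (by omega) (by omega)
  by_cases h : i < 150240
  · exact CosetEnum.allFrom_iff.1 points_part312 i (by omega) (by omega)
  by_cases h : i < 150720
  · exact CosetEnum.allFrom_iff.1 points_part313 i (by omega) (by omega)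
  by_cases h : i < 151200
  · exact CosetEnum.allFrom_iff.1 points_part314 i (by omega) (by omega)
  by_cases h : i < 151680
  · exact CosetEnum.allFrom_iff.1 points_part315 i (by omega) (by omega)
  by_cases h : i < 152160
  · exact CosetEnum.allFrom_iff.1 points_part316 i (by omega) (by omega)
  by_cases h : i < 152640
  · exact CosetEnum.allFrom_iff.1 points_part317 i (by omega) (by omega)
  by_cases h : i < 153120
  · exact CosetEnum.allFrom_iff.1 points_part318 i (by omega) (by omega)
  exact CosetEnum.allFrom_iff.1 points_part319 i (by omega) (by omega)

end Cfsg.Agent.Lib.Fi24
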