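import Cfsg.Agent.Lib.Fi24.Points

/-! Checks of the certificate, part 2. -/

set_option autoImplicit false
set_option maxRecDepth 20000
set_option Elab.async false

namespace Cfsg.Agent.Lib.Fi24

open Cfsg.Agent.Lib.CosetEnum (allBelow allFrom)

theorem points_part32 : allFrom 15360 480 pointOk = true := by decide +kernel

theorem points_part33 : allFrom 15840 480 pointOk = true := by decide +kernel

theorem points_part34 : allFrom 16320 480 pointOk = true := by decide +kernel

theorem points_part35 : allFrom 16800 480 pointOk = true := by decide +kernel

theorem points_part36 : allFrom 17280 480 pointOk = true := by decide +kernel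

theorem points_part37 : allFrom 17760 480 pointOk = true := by decide +kernel

theorem points_part38 : allFrom 18240 480 pointOk = true := by decide +kernel

theorem points_part39 : allFrom 18720 480 pointOk = true := by decide +kernel

theorem points_part40 : allFrom 19200 480 pointOk = true := by decide +kernel

theorem points_part41 : allFrom 19680 480 pointOk = true := by decide +kernel

theorem points_part42 : allFrom 20160 480 pointOk = true := by decide +kernel

theorem points_part43 : allFrom 20640 480 pointOk = true := by decide +kernel

theorem points_part44 : allFrom 21120 480 pointOk = true := by decide +kernel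

theorem points_part45 : allFrom 21600 480 pointOk = true := by decide +kernel

theorem points_part46 : allFrom 22080 480 pointOk = true := by decide +kernel

theorem points_part47 : allFrom 22560 480 pointOk = true := by decide +kernel

/-- The points checked in this file. -/
theorem range2 : ∀ i, 15360 ≤ i → i < 23040 → pointOk i = true := by
  intro i h1 h2
  by_cases h : i < 15840
  · exact CosetEnum.allFrom_iff.1 points_part32 i (by omega) (by omega)
  by_cases h : i < 16320
  · exact CosetEnum.allFrom_iff.1 points_part33 i (by omega) (by omega)
  by_cases h : i < 16800
  · exact CosetEnum.allFrom_iff.1 points_part34 i (by omega) (by omega)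
  by_cases h : i < 17280
  · exact CosetEnum.allFrom_iff.1 points_part35 i (by omega) (by omega)
  by_cases h : i < 17760
  · exact CosetEnum.allFrom_iff.1 points_part36 i (by omega) (by omega)
  by_cases h : i < 18240
  · exact CosetEnum.allFrom_iff.1 points_part37 i (by omega) (by omega)
  by_cases h : i < 18720
  · exact CosetEnum.allFrom_iff.1 points_part38 i (by omega) (by omega)
  by_cases h : i < 19200
  · exact CosetEnum.allFrom_iff.1 points_part39 i (by omega) (by omega)
  by_cases h : i < 19680
  · exact CosetEnum.allFrom_iff.1 points_part40 i (by omega) (by omega)
  by_cases h : i < 20160
  · exact CosetEnum.allFrom_iff.1 points_part41 i (by omega) (by omega)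
  by_cases h : i < 20640
  · exact CosetEnum.allFrom_iff.1 points_part42 i (by omega) (by omega)
  by_cases h : i < 21120
  · exact CosetEnum.allFrom_iff.1 points_part43 i (by omega) (by omega)
  by_cases h : i < 21600
  · exact CosetEnum.allFrom_iff.1 points_part44 i (by omega) (by omega)
  by_cases h : i < 22080
  · exact CosetEnum.allFrom_iff.1 points_part45 i (by omega) (by omega)
  by_cases h : i < 22560
  · exact CosetEnum.allFrom_iff.1 points_part46 i (by omega) (by omega)
  exact CosetEnum.allFrom_iff.1 points_part47 i (by omega) (by omega)

end Cfsg.Agent.Lib.Fi24
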