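import Cfsg.Agent.Lib.Fi24.Points

/-! Checks of the certificate, part 20. -/

set_option autoImplicit false
set_option maxRecDepth 20000
set_option Elab.async false

namespace Cfsg.Agent.Lib.Fi24

open Cfsg.Agent.Lib.CosetEnum (allBelow allFrom)

theorem points_part320 : allFrom 153600 480 pointOk = true := by decide +kernel

theorem points_part321 : allFrom 154080 480 pointOk = true := by decide +kernel

theorem points_part322 : allFrom 154560 480 pointOk = true := by decide +kernel

theorem points_part323 : allFrom 155040 480 pointOk = true := by decide +kernel

theorem points_part324 : allFrom 155520 480 pointOk = true := by decide +kernel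

theorem points_part325 : allFrom 156000 480 pointOk = true := by decide +kernel

theorem points_part326 : allFrom 156480 480 pointOk = true := by decide +kernel

theorem points_part327 : allFrom 156960 480 pointOk = true := by decide +kernel

theorem points_part328 : allFrom 157440 480 pointOk = true := by decide +kernel

theorem points_part329 : allFrom 157920 480 pointOk = true := by decide +kernel

theorem points_part330 : allFrom 158400 480 pointOk = true := by decide +kernel

theorem points_part331 : allFrom 158880 480 pointOk = true := by decide +kernel

theorem points_part332 : allFrom 159360 480 pointOk = true := by decide +kernel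

theorem points_part333 : allFrom 159840 480 pointOk = true := by decide +kernel

theorem points_part334 : allFrom 160320 480 pointOk = true := by decide +kernel

theorem points_part335 : allFrom 160800 480 pointOk = true := by decide +kernel

/-- The points checked in this file. -/
theorem range20 : ∀ i, 153600 ≤ i → i < 161280 → pointOk i = true := by
  intro i h1 h2
  by_cases h : i < 154080
  · exact CosetEnum.allFrom_iff.1 points_part320 i (by omega) (by omega)
  by_cases h : i < 154560
  · exact CosetEnum.allFrom_iff.1 points_part321 i (by omega) (by omega)
  by_cases h : i < 155040
  · exact CosetEnum.allFrom_iff.1 points_part322 i (by omega) (by omega)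
  by_cases h : i < 155520
  · exact CosetEnum.allFrom_iff.1 points_part323 i (by omega) (by omega)
  by_cases h : i < 156000
  · exact CosetEnum.allFrom_iff.1 points_part324 i (by omega) (by omega)
  by_cases h : i < 156480
  · exact CosetEnum.allFrom_iff.1 points_part325 i (by omega) (by omega)
  by_cases h : i < 156960
  · exact CosetEnum.allFrom_iff.1 points_part326 i (by omega) (by omega)
  by_cases h : i < 157440
  · exact CosetEnum.allFrom_iff.1 points_part327 i (by omega) (by omega)
  by_cases h : i < 157920
  · exact CosetEnum.allFrom_iff.1 points_part328 i (by omega) (by omega)
  by_cases h : i < 158400
  · exact CosetEnum.allFrom_iff.1 points_part329 i (by omega) (by omega)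
  by_cases h : i < 158880
  · exact CosetEnum.allFrom_iff.1 points_part330 i (by omega) (by omega)
  by_cases h : i < 159360
  · exact CosetEnum.allFrom_iff.1 points_part331 i (by omega) (by omega)
  by_cases h : i < 159840
  · exact CosetEnum.allFrom_iff.1 points_part332 i (by omega) (by omega)
  by_cases h : i < 160320
  · exact CosetEnum.allFrom_iff.1 points_part333 i (by omega) (by omega)
  by_cases h : i < 160800
  · exact CosetEnum.allFrom_iff.1 points_part334 i (by omega) (by omega)
  exact CosetEnum.allFrom_iff.1 points_part335 i (by omega) (by omega)

end Cfsg.Agent.Lib.Fi24
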