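import Cfsg.Agent.Lib.Fi24.Points

/-! Checks of the certificate, part 21. -/

set_option autoImplicit false
set_option maxRecDepth 20000
set_option Elab.async false

namespace Cfsg.Agent.Lib.Fi24

open Cfsg.Agent.Lib.CosetEnum (allBelow allFrom)

theorem points_part336 : allFrom 161280 480 pointOk = true := by decide +kernel

theorem points_part337 : allFrom 161760 480 pointOk = true := by decide +kernel

theorem points_part338 : allFrom 162240 480 pointOk = true := by decide +kernel

theorem points_part339 : allFrom 162720 480 pointOk = true := by decide +kernel

theorem points_part340 : allFrom 163200 480 pointOk = true := by decide +kernel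

theorem points_part341 : allFrom 163680 480 pointOk = true := by decide +kernel

theorem points_part342 : allFrom 164160 480 pointOk = true := by decide +kernel

theorem points_part343 : allFrom 164640 480 pointOk = true := by decide +kernel

theorem points_part344 : allFrom 165120 480 pointOk = true := by decide +kernel

theorem points_part345 : allFrom 165600 480 pointOk = true := by decide +kernel

theorem points_part346 : allFrom 166080 480 pointOk = true := by decide +kernel

theorem points_part347 : allFrom 166560 480 pointOk = true := by decide +kernel

theorem points_part348 : allFrom 167040 480 pointOk = true := by decide +kernel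

theorem points_part349 : allFrom 167520 480 pointOk = true := by decide +kernel

theorem points_part350 : allFrom 168000 480 pointOk = true := by decide +kernel

theorem points_part351 : allFrom 168480 480 pointOk = true := by decide +kernel

/-- The points checked in this file. -/
theorem range21 : ∀ i, 161280 ≤ i → i < 168960 → pointOk i = true := by
  intro i h1 h2
  by_cases h : i < 161760
  · exact CosetEnum.allFrom_iff.1 points_part336 i (by omega) (by omega)
  by_cases h : i < 162240
  · exact CosetEnum.allFrom_iff.1 points_part337 i (by omega) (by omega)
  by_cases h : i < 162720
  · exact CosetEnum.allFrom_iff.1 points_part338 i (by omega) (by omega)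
  by_cases h : i < 163200
  · exact CosetEnum.allFrom_iff.1 points_part339 i (by omega) (by omega)
  by_cases h : i < 163680
  · exact CosetEnum.allFrom_iff.1 points_part340 i (by omega) (by omega)
  by_cases h : i < 164160
  · exact CosetEnum.allFrom_iff.1 points_part341 i (by omega) (by omega)
  by_cases h : i < 164640
  · exact CosetEnum.allFrom_iff.1 points_part342 i (by omega) (by omega)
  by_cases h : i < 165120
  · exact CosetEnum.allFrom_iff.1 points_part343 i (by omega) (by omega)
  by_cases h : i < 165600
  · exact CosetEnum.allFrom_iff.1 points_part344 i (by omega) (by omega)
  by_cases h : i < 166080
  · exact CosetEnum.allFrom_iff.1 points_part345 i (by omega) (by omega)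
  by_cases h : i < 166560
  · exact CosetEnum.allFrom_iff.1 points_part346 i (by omega) (by omega)
  by_cases h : i < 167040
  · exact CosetEnum.allFrom_iff.1 points_part347 i (by omega) (by omega)
  by_cases h : i < 167520
  · exact CosetEnum.allFrom_iff.1 points_part348 i (by omega) (by omega)
  by_cases h : i < 168000
  · exact CosetEnum.allFrom_iff.1 points_part349 i (by omega) (by omega)
  by_cases h : i < 168480
  · exact CosetEnum.allFrom_iff.1 points_part350 i (by omega) (by omega)
  exact CosetEnum.allFrom_iff.1 points_part351 i (by omega) (by omega)

end Cfsg.Agent.Lib.Fi24
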