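import Cfsg.Agent.Lib.Fi24.Points

/-! Checks of the certificate, part 22. -/

set_option autoImplicit false
set_option maxRecDepth 20000
set_option Elab.async false

namespace Cfsg.Agent.Lib.Fi24

open Cfsg.Agent.Lib.CosetEnum (allBelow allFrom)

theorem points_part352 : allFrom 168960 480 pointOk = true := by decide +kernel

theorem points_part353 : allFrom 169440 480 pointOk = true := by decide +kernel

theorem points_part354 : allFrom 169920 480 pointOk = true := by decide +kernel

theorem points_part355 : allFrom 170400 480 pointOk = true := by decide +kernel

theorem points_part356 : allFrom 170880 480 pointOk = true := by decide +kernel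

theorem points_part357 : allFrom 171360 480 pointOk = true := by decide +kernel

theorem points_part358 : allFrom 171840 480 pointOk = true := by decide +kernel

theorem points_part359 : allFrom 172320 480 pointOk = true := by decide +kernel

theorem points_part360 : allFrom 172800 480 pointOk = true := by decide +kernel

theorem points_part361 : allFrom 173280 480 pointOk = true := by decide +kernel

theorem points_part362 : allFrom 173760 480 pointOk = true := by decide +kernel

theorem points_part363 : allFrom 174240 480 pointOk = true := by decide +kernel

theorem points_part364 : allFrom 174720 480 pointOk = true := by decide +kernel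

theorem points_part365 : allFrom 175200 480 pointOk = true := by decide +kernel

theorem points_part366 : allFrom 175680 480 pointOk = true := by decide +kernel

theorem points_part367 : allFrom 176160 480 pointOk = true := by decide +kernel

/-- The points checked in this file. -/
theorem range22 : ∀ i, 168960 ≤ i → i < 176640 → pointOk i = true := by
  intro i h1 h2
  by_cases h : i < 169440
  · exact CosetEnum.allFrom_iff.1 points_part352 i (by omega) (by omega)
  by_cases h : i < 169920
  · exact CosetEnum.allFrom_iff.1 points_part353 i (by omega) (by omega)
  by_cases h : i < 170400
  · exact CosetEnum.allFrom_iff.1 points_part354 i (by omega) (by omega)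
  by_cases h : i < 170880
  · exact CosetEnum.allFrom_iff.1 points_part355 i (by omega) (by omega)
  by_cases h : i < 171360
  · exact CosetEnum.allFrom_iff.1 points_part356 i (by omega) (by omega)
  by_cases h : i < 171840
  · exact CosetEnum.allFrom_iff.1 points_part357 i (by omega) (by omega)
  by_cases h : i < 172320
  · exact CosetEnum.allFrom_iff.1 points_part358 i (by omega) (by omega)
  by_cases h : i < 172800
  · exact CosetEnum.allFrom_iff.1 points_part359 i (by omega) (by omega)
  by_cases h : i < 173280
  · exact CosetEnum.allFrom_iff.1 points_part360 i (by omega) (by omega)
  by_cases h : i < 173760
  · exact CosetEnum.allFrom_iff.1 points_part361 i (by omega) (by omega)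
  by_cases h : i < 174240
  · exact CosetEnum.allFrom_iff.1 points_part362 i (by omega) (by omega)
  by_cases h : i < 174720
  · exact CosetEnum.allFrom_iff.1 points_part363 i (by omega) (by omega)
  by_cases h : i < 175200
  · exact CosetEnum.allFrom_iff.1 points_part364 i (by omega) (by omega)
  by_cases h : i < 175680
  · exact CosetEnum.allFrom_iff.1 points_part365 i (by omega) (by omega)
  by_cases h : i < 176160
  · exact CosetEnum.allFrom_iff.1 points_part366 i (by omega) (by omega)
  exact CosetEnum.allFrom_iff.1 points_part367 i (by omega) (by omega)

end Cfsg.Agent.Lib.Fi24
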