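import Cfsg.Agent.Lib.Fi24.Points

/-! Checks of the certificate, part 23. -/

set_option autoImplicit false
set_option maxRecDepth 20000
set_option Elab.async false

namespace Cfsg.Agent.Lib.Fi24

open Cfsg.Agent.Lib.CosetEnum (allBelow allFrom)

theorem points_part368 : allFrom 176640 480 pointOk = true := by decide +kernel

theorem points_part369 : allFrom 177120 480 pointOk = true := by decide +kernel

theorem points_part370 : allFrom 177600 480 pointOk = true := by decide +kernel

theorem points_part371 : allFrom 178080 480 pointOk = true := by decide +kernel

theorem points_part372 : allFrom 178560 480 pointOk = true := by decide +kernel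

theorem points_part373 : allFrom 179040 480 pointOk = true := by decide +kernel

theorem points_part374 : allFrom 179520 480 pointOk = true := by decide +kernel

theorem points_part375 : allFrom 180000 480 pointOk = true := by decide +kernel

theorem points_part376 : allFrom 180480 480 pointOk = true := by decide +kernel

theorem points_part377 : allFrom 180960 480 pointOk = true := by decide +kernel

theorem points_part378 : allFrom 181440 480 pointOk = true := by decide +kernel

theorem points_part379 : allFrom 181920 480 pointOk = true := by decide +kernel

theorem points_part380 : allFrom 182400 480 pointOk = true := by decide +kernel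

theorem points_part381 : allFrom 182880 480 pointOk = true := by decide +kernel

theorem points_part382 : allFrom 183360 480 pointOk = true := by decide +kernel

theorem points_part383 : allFrom 183840 480 pointOk = true := by decide +kernel

/-- The points checked in this file. -/
theorem range23 : ∀ i, 176640 ≤ i → i < 184320 → pointOk i = true := by
  intro i h1 h2
  by_cases h : i < 177120
  · exact CosetEnum.allFrom_iff.1 points_part368 i (by omega) (by omega)
  by_cases h : i < 177600
  · exact CosetEnum.allFrom_iff.1 points_part369 i (by omega) (by omega)
  by_cases h : i < 178080
  · exact CosetEnum.allFrom_iff.1 points_part370 i (by omega) (by omega)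
  by_cases h : i < 178560
  · exact CosetEnum.allFrom_iff.1 points_part371 i (by omega) (by omega)
  by_cases h : i < 179040
  · exact CosetEnum.allFrom_iff.1 points_part372 i (by omega) (by omega)
  by_cases h : i < 179520
  · exact CosetEnum.allFrom_iff.1 points_part373 i (by omega) (by omega)
  by_cases h : i < 180000
  · exact CosetEnum.allFrom_iff.1 points_part374 i (by omega) (by omega)
  by_cases h : i < 180480
  · exact CosetEnum.allFrom_iff.1 points_part375 i (by omega) (by omega)
  by_cases h : i < 180960
  · exact CosetEnum.allFrom_iff.1 points_part376 i (by omega) (by omega)
  by_cases h : i < 181440
  · exact CosetEnum.allFrom_iff.1 points_part377 i (by omega) (by omega)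
  by_cases h : i < 181920
  · exact CosetEnum.allFrom_iff.1 points_part378 i (by omega) (by omega)
  by_cases h : i < 182400
  · exact CosetEnum.allFrom_iff.1 points_part379 i (by omega) (by omega)
  by_cases h : i < 182880
  · exact CosetEnum.allFrom_iff.1 points_part380 i (by omega) (by omega)
  by_cases h : i < 183360
  · exact CosetEnum.allFrom_iff.1 points_part381 i (by omega) (by omega)
  by_cases h : i < 183840
  · exact CosetEnum.allFrom_iff.1 points_part382 i (by omega) (by omega)
  exact CosetEnum.allFrom_iff.1 points_part383 i (by omega) (by omega)

end Cfsg.Agent.Lib.Fi24
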