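import Cfsg.Agent.Lib.Fi24.Points

/-! Checks of the certificate, part 24. -/

set_option autoImplicit false
set_option maxRecDepth 20000
set_option Elab.async false

namespace Cfsg.Agent.Lib.Fi24

open Cfsg.Agent.Lib.CosetEnum (allBelow allFrom)

theorem points_part384 : allFrom 184320 480 pointOk = true := by decide +kernel

theorem points_part385 : allFrom 184800 480 pointOk = true := by decide +kernel

theorem points_part386 : allFrom 185280 480 pointOk = true := by decide +kernel

theorem points_part387 : allFrom 185760 480 pointOk = true := by decide +kernel

theorem points_part388 : allFrom 186240 480 pointOk = true := by decide +kernel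

theorem points_part389 : allFrom 186720 480 pointOk = true := by decide +kernel

theorem points_part390 : allFrom 187200 480 pointOk = true := by decide +kernel

theorem points_part391 : allFrom 187680 480 pointOk = true := by decide +kernel

theorem points_part392 : allFrom 188160 480 pointOk = true := by decide +kernel

theorem points_part393 : allFrom 188640 480 pointOk = true := by decide +kernel

theorem points_part394 : allFrom 189120 480 pointOk = true := by decide +kernel

theorem points_part395 : allFrom 189600 480 pointOk = true := by decide +kernel

theorem points_part396 : allFrom 190080 480 pointOk = true := by decide +kernel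

theorem points_part397 : allFrom 190560 480 pointOk = true := by decide +kernel

theorem points_part398 : allFrom 191040 480 pointOk = true := by decide +kernel

theorem points_part399 : allFrom 191520 480 pointOk = true := by decide +kernel

/-- The points checked in this file. -/
theorem range24 : ∀ i, 184320 ≤ i → i < 192000 → pointOk i = true := by
  intro i h1 h2
  by_cases h : i < 184800
  · exact CosetEnum.allFrom_iff.1 points_part384 i (by omega) (by omega)
  by_cases h : i < 185280
  · exact CosetEnum.allFrom_iff.1 points_part385 i (by omega) (by omega)
  by_cases h : i < 185760
  · exact CosetEnum.allFrom_iff.1 points_part386 i (by omega) (by omega)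
  by_cases h : i < 186240
  · exact CosetEnum.allFrom_iff.1 points_part387 i (by omega) (by omega)
  by_cases h : i < 186720
  · exact CosetEnum.allFrom_iff.1 points_part388 i (by omega) (by omega)
  by_cases h : i < 187200
  · exact CosetEnum.allFrom_iff.1 points_part389 i (by omega) (by omega)
  by_cases h : i < 187680
  · exact CosetEnum.allFrom_iff.1 points_part390 i (by omega) (by omega)
  by_cases h : i < 188160
  · exact CosetEnum.allFrom_iff.1 points_part391 i (by omega) (by omega)
  by_cases h : i < 188640
  · exact CosetEnum.allFrom_iff.1 points_part392 i (by omega) (by omega)
  by_cases h : i < 189120
  · exact CosetEnum.allFrom_iff.1 points_part393 i (by omega) (by omega)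
  by_cases h : i < 189600
  · exact CosetEnum.allFrom_iff.1 points_part394 i (by omega) (by omega)
  by_cases h : i < 190080
  · exact CosetEnum.allFrom_iff.1 points_part395 i (by omega) (by omega)
  by_cases h : i < 190560
  · exact CosetEnum.allFrom_iff.1 points_part396 i (by omega) (by omega)
  by_cases h : i < 191040
  · exact CosetEnum.allFrom_iff.1 points_part397 i (by omega) (by omega)
  by_cases h : i < 191520
  · exact CosetEnum.allFrom_iff.1 points_part398 i (by omega) (by omega)
  exact CosetEnum.allFrom_iff.1 points_part399 i (by omega) (by omega)

end Cfsg.Agent.Lib.Fi24
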