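import Cfsg.Agent.Lib.Fi24.Points

/-! Checks of the certificate, part 25. -/

set_option autoImplicit false
set_option maxRecDepth 20000
set_option Elab.async false

namespace Cfsg.Agent.Lib.Fi24

open Cfsg.Agent.Lib.CosetEnum (allBelow allFrom)

theorem points_part400 : allFrom 192000 480 pointOk = true := by decide +kernel

theorem points_part401 : allFrom 192480 480 pointOk = true := by decide +kernel

theorem points_part402 : allFrom 192960 480 pointOk = true := by decide +kernel

theorem points_part403 : allFrom 193440 480 pointOk = true := by decide +kernel

theorem points_part404 : allFrom 193920 480 pointOk = true := by decide +kernel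

theorem points_part405 : allFrom 194400 480 pointOk = true := by decide +kernel

theorem points_part406 : allFrom 194880 480 pointOk = true := by decide +kernel

theorem points_part407 : allFrom 195360 480 pointOk = true := by decide +kernel

theorem points_part408 : allFrom 195840 480 pointOk = true := by decide +kernel

theorem points_part409 : allFrom 196320 480 pointOk = true := by decide +kernel

theorem points_part410 : allFrom 196800 480 pointOk = true := by decide +kernel

theorem points_part411 : allFrom 197280 480 pointOk = true := by decide +kernel

theorem points_part412 : allFrom 197760 480 pointOk = true := by decide +kernel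

theorem points_part413 : allFrom 198240 480 pointOk = true := by decide +kernel

theorem points_part414 : allFrom 198720 480 pointOk = true := by decide +kernel

theorem points_part415 : allFrom 199200 480 pointOk = true := by decide +kernel

/-- The points checked in this file. -/
theorem range25 : ∀ i, 192000 ≤ i → i < 199680 → pointOk i = true := by
  intro i h1 h2
  by_cases h : i < 192480
  · exact CosetEnum.allFrom_iff.1 points_part400 i (by omega) (by omega)
  by_cases h : i < 192960
  · exact CosetEnum.allFrom_iff.1 points_part401 i (by omega) (by omega)
  by_cases h : i < 193440
  · exact CosetEnum.allFrom_iff.1 points_part402 i (by omega) (by omega)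
  by_cases h : i < 193920
  · exact CosetEnum.allFrom_iff.1 points_part403 i (by omega) (by omega)
  by_cases h : i < 194400
  · exact CosetEnum.allFrom_iff.1 points_part404 i (by omega) (by omega)
  by_cases h : i < 194880
  · exact CosetEnum.allFrom_iff.1 points_part405 i (by omega) (by omega)
  by_cases h : i < 195360
  · exact CosetEnum.allFrom_iff.1 points_part406 i (by omega) (by omega)
  by_cases h : i < 195840
  · exact CosetEnum.allFrom_iff.1 points_part407 i (by omega) (by omega)
  by_cases h : i < 196320
  · exact CosetEnum.allFrom_iff.1 points_part408 i (by omega) (by omega)
  by_cases h : i < 196800
  · exact CosetEnum.allFrom_iff.1 points_part409 i (by omega) (by omega)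
  by_cases h : i < 197280
  · exact CosetEnum.allFrom_iff.1 points_part410 i (by omega) (by omega)
  by_cases h : i < 197760
  · exact CosetEnum.allFrom_iff.1 points_part411 i (by omega) (by omega)
  by_cases h : i < 198240
  · exact CosetEnum.allFrom_iff.1 points_part412 i (by omega) (by omega)
  by_cases h : i < 198720
  · exact CosetEnum.allFrom_iff.1 points_part413 i (by omega) (by omega)
  by_cases h : i < 199200
  · exact CosetEnum.allFrom_iff.1 points_part414 i (by omega) (by omega)
  exact CosetEnum.allFrom_iff.1 points_part415 i (by omega) (by omega)

end Cfsg.Agent.Lib.Fi24
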