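import Cfsg.Agent.Lib.Fi24.Points

/-! Checks of the certificate, part 26. -/

set_option autoImplicit false
set_option maxRecDepth 20000
set_option Elab.async false

namespace Cfsg.Agent.Lib.Fi24

open Cfsg.Agent.Lib.CosetEnum (allBelow allFrom)

theorem points_part416 : allFrom 199680 480 pointOk = true := by decide +kernel

theorem points_part417 : allFrom 200160 480 pointOk = true := by decide +kernel

theorem points_part418 : allFrom 200640 480 pointOk = true := by decide +kernel

theorem points_part419 : allFrom 201120 480 pointOk = true := by decide +kernel

theorem points_part420 : allFrom 201600 480 pointOk = true := by decide +kernel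

theorem points_part421 : allFrom 202080 480 pointOk = true := by decide +kernel

theorem points_part422 : allFrom 202560 480 pointOk = true := by decide +kernel

theorem points_part423 : allFrom 203040 480 pointOk = true := by decide +kernel

theorem points_part424 : allFrom 203520 480 pointOk = true := by decide +kernel

theorem points_part425 : allFrom 204000 480 pointOk = true := by decide +kernel

theorem points_part426 : allFrom 204480 480 pointOk = true := by decide +kernel

theorem points_part427 : allFrom 204960 480 pointOk = true := by decide +kernel

theorem points_part428 : allFrom 205440 480 pointOk = true := by decide +kernel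

theorem points_part429 : allFrom 205920 480 pointOk = true := by decide +kernel

theorem points_part430 : allFrom 206400 480 pointOk = true := by decide +kernel

theorem points_part431 : allFrom 206880 480 pointOk = true := by decide +kernel

/-- The points checked in this file. -/
theorem range26 : ∀ i, 199680 ≤ i → i < 207360 → pointOk i = true := by
  intro i h1 h2
  by_cases h : i < 200160
  · exact CosetEnum.allFrom_iff.1 points_part416 i (by omega) (by omega)
  by_cases h : i < 200640
  · exact CosetEnum.allFrom_iff.1 points_part417 i (by omega) (by omega)
  by_cases h : i < 201120
  · exact CosetEnum.allFrom_iff.1 points_part418 i (by omega) (by omega)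
  by_cases h : i < 201600
  · exact CosetEnum.allFrom_iff.1 points_part419 i (by omega) (by omega)
  by_cases h : i < 202080
  · exact CosetEnum.allFrom_iff.1 points_part420 i (by omega) (by omega)
  by_cases h : i < 202560
  · exact CosetEnum.allFrom_iff.1 points_part421 i (by omega) (by omega)
  by_cases h : i < 203040
  · exact CosetEnum.allFrom_iff.1 points_part422 i (by omega) (by omega)
  by_cases h : i < 203520
  · exact CosetEnum.allFrom_iff.1 points_part423 i (by omega) (by omega)
  by_cases h : i < 204000
  · exact CosetEnum.allFrom_iff.1 points_part424 i (by omega) (by omega)
  by_cases h : i < 204480
  · exact CosetEnum.allFrom_iff.1 points_part425 i (by omega) (by omega)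
  by_cases h : i < 204960
  · exact CosetEnum.allFrom_iff.1 points_part426 i (by omega) (by omega)
  by_cases h : i < 205440
  · exact CosetEnum.allFrom_iff.1 points_part427 i (by omega) (by omega)
  by_cases h : i < 205920
  · exact CosetEnum.allFrom_iff.1 points_part428 i (by omega) (by omega)
  by_cases h : i < 206400
  · exact CosetEnum.allFrom_iff.1 points_part429 i (by omega) (by omega)
  by_cases h : i < 206880
  · exact CosetEnum.allFrom_iff.1 points_part430 i (by omega) (by omega)
  exact CosetEnum.allFrom_iff.1 points_part431 i (by omega) (by omega)

end Cfsg.Agent.Lib.Fi24
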