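import Cfsg.Agent.Lib.Fi24.Points

/-! Checks of the certificate, part 27. -/

set_option autoImplicit false
set_option maxRecDepth 20000
set_option Elab.async false

namespace Cfsg.Agent.Lib.Fi24

open Cfsg.Agent.Lib.CosetEnum (allBelow allFrom)

theorem points_part432 : allFrom 207360 480 pointOk = true := by decide +kernel

theorem points_part433 : allFrom 207840 480 pointOk = true := by decide +kernel

theorem points_part434 : allFrom 208320 480 pointOk = true := by decide +kernel

theorem points_part435 : allFrom 208800 480 pointOk = true := by decide +kernel

theorem points_part436 : allFrom 209280 480 pointOk = true := by decide +kernel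

theorem points_part437 : allFrom 209760 480 pointOk = true := by decide +kernel

theorem points_part438 : allFrom 210240 480 pointOk = true := by decide +kernel

theorem points_part439 : allFrom 210720 480 pointOk = true := by decide +kernel

theorem points_part440 : allFrom 211200 480 pointOk = true := by decide +kernel

theorem points_part441 : allFrom 211680 480 pointOk = true := by decide +kernel

theorem points_part442 : allFrom 212160 480 pointOk = true := by decide +kernel

theorem points_part443 : allFrom 212640 480 pointOk = true := by decide +kernel

theorem points_part444 : allFrom 213120 480 pointOk = true := by decide +kernel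

theorem points_part445 : allFrom 213600 480 pointOk = true := by decide +kernel

theorem points_part446 : allFrom 214080 480 pointOk = true := by decide +kernel

theorem points_part447 : allFrom 214560 480 pointOk = true := by decide +kernel

/-- The points checked in this file. -/
theorem range27 : ∀ i, 207360 ≤ i → i < 215040 → pointOk i = true := by
  intro i h1 h2
  by_cases h : i < 207840
  · exact CosetEnum.allFrom_iff.1 points_part432 i (by omega) (by omega)
  by_cases h : i < 208320
  · exact CosetEnum.allFrom_iff.1 points_part433 i (by omega) (by omega)
  by_cases h : i < 208800
  · exact CosetEnum.allFrom_iff.1 points_part434 i (by omega) (by omega)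
  by_cases h : i < 209280
  · exact CosetEnum.allFrom_iff.1 points_part435 i (by omega) (by omega)
  by_cases h : i < 209760
  · exact CosetEnum.allFrom_iff.1 points_part436 i (by omega) (by omega)
  by_cases h : i < 210240
  · exact CosetEnum.allFrom_iff.1 points_part437 i (by omega) (by omega)
  by_cases h : i < 210720
  · exact CosetEnum.allFrom_iff.1 points_part438 i (by omega) (by omega)
  by_cases h : i < 211200
  · exact CosetEnum.allFrom_iff.1 points_part439 i (by omega) (by omega)
  by_cases h : i < 211680
  · exact CosetEnum.allFrom_iff.1 points_part440 i (by omega) (by omega)
  by_cases h : i < 212160
  · exact CosetEnum.allFrom_iff.1 points_part441 i (by omega) (by omega)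
  by_cases h : i < 212640
  · exact CosetEnum.allFrom_iff.1 points_part442 i (by omega) (by omega)
  by_cases h : i < 213120
  · exact CosetEnum.allFrom_iff.1 points_part443 i (by omega) (by omega)
  by_cases h : i < 213600
  · exact CosetEnum.allFrom_iff.1 points_part444 i (by omega) (by omega)
  by_cases h : i < 214080
  · exact CosetEnum.allFrom_iff.1 points_part445 i (by omega) (by omega)
  by_cases h : i < 214560
  · exact CosetEnum.allFrom_iff.1 points_part446 i (by omega) (by omega)
  exact CosetEnum.allFrom_iff.1 points_part447 i (by omega) (by omega)

end Cfsg.Agent.Lib.Fi24
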