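import Cfsg.Agent.Lib.Fi24.Points

/-! Checks of the certificate, part 28. -/

set_option autoImplicit false
set_option maxRecDepth 20000
set_option Elab.async false

namespace Cfsg.Agent.Lib.Fi24

open Cfsg.Agent.Lib.CosetEnum (allBelow allFrom)

theorem points_part448 : allFrom 215040 480 pointOk = true := by decide +kernel

theorem points_part449 : allFrom 215520 480 pointOk = true := by decide +kernel

theorem points_part450 : allFrom 216000 480 pointOk = true := by decide +kernel

theorem points_part451 : allFrom 216480 480 pointOk = true := by decide +kernel

theorem points_part452 : allFrom 216960 480 pointOk = true := by decide +kernel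

theorem points_part453 : allFrom 217440 480 pointOk = true := by decide +kernel

theorem points_part454 : allFrom 217920 480 pointOk = true := by decide +kernel

theorem points_part455 : allFrom 218400 480 pointOk = true := by decide +kernel

theorem points_part456 : allFrom 218880 480 pointOk = true := by decide +kernel

theorem points_part457 : allFrom 219360 480 pointOk = true := by decide +kernel

theorem points_part458 : allFrom 219840 480 pointOk = true := by decide +kernel

theorem points_part459 : allFrom 220320 480 pointOk = true := by decide +kernel

theorem points_part460 : allFrom 220800 480 pointOk = true := by decide +kernel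

theorem points_part461 : allFrom 221280 480 pointOk = true := by decide +kernel

theorem points_part462 : allFrom 221760 480 pointOk = true := by decide +kernel

theorem points_part463 : allFrom 222240 480 pointOk = true := by decide +kernel

/-- The points checked in this file. -/
theorem range28 : ∀ i, 215040 ≤ i → i < 222720 → pointOk i = true := by
  intro i h1 h2
  by_cases h : i < 215520
  · exact CosetEnum.allFrom_iff.1 points_part448 i (by omega) (by omega)
  by_cases h : i < 216000
  · exact CosetEnum.allFrom_iff.1 points_part449 i (by omega) (by omega)
  by_cases h : i < 216480
  · exact CosetEnum.allFrom_iff.1 points_part450 i (by omega) (by omega)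
  by_cases h : i < 216960
  · exact CosetEnum.allFrom_iff.1 points_part451 i (by omega) (by omega)
  by_cases h : i < 217440
  · exact CosetEnum.allFrom_iff.1 points_part452 i (by omega) (by omega)
  by_cases h : i < 217920
  · exact CosetEnum.allFrom_iff.1 points_part453 i (by omega) (by omega)
  by_cases h : i < 218400
  · exact CosetEnum.allFrom_iff.1 points_part454 i (by omega) (by omega)
  by_cases h : i < 218880
  · exact CosetEnum.allFrom_iff.1 points_part455 i (by omega) (by omega)
  by_cases h : i < 219360
  · exact CosetEnum.allFrom_iff.1 points_part456 i (by omega) (by omega)
  by_cases h : i < 219840
  · exact CosetEnum.allFrom_iff.1 points_part457 i (by omega) (by omega)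
  by_cases h : i < 220320
  · exact CosetEnum.allFrom_iff.1 points_part458 i (by omega) (by omega)
  by_cases h : i < 220800
  · exact CosetEnum.allFrom_iff.1 points_part459 i (by omega) (by omega)
  by_cases h : i < 221280
  · exact CosetEnum.allFrom_iff.1 points_part460 i (by omega) (by omega)
  by_cases h : i < 221760
  · exact CosetEnum.allFrom_iff.1 points_part461 i (by omega) (by omega)
  by_cases h : i < 222240
  · exact CosetEnum.allFrom_iff.1 points_part462 i (by omega) (by omega)
  exact CosetEnum.allFrom_iff.1 points_part463 i (by omega) (by omega)

end Cfsg.Agent.Lib.Fi24
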