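import Cfsg.Agent.Lib.Fi24.Points

/-! Checks of the certificate, part 29. -/

set_option autoImplicit false
set_option maxRecDepth 20000
set_option Elab.async false

namespace Cfsg.Agent.Lib.Fi24

open Cfsg.Agent.Lib.CosetEnum (allBelow allFrom)

theorem points_part464 : allFrom 222720 480 pointOk = true := by decide +kernel

theorem points_part465 : allFrom 223200 480 pointOk = true := by decide +kernel

theorem points_part466 : allFrom 223680 480 pointOk = true := by decide +kernel

theorem points_part467 : allFrom 224160 480 pointOk = true := by decide +kernel

theorem points_part468 : allFrom 224640 480 pointOk = true := by decide +kernel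

theorem points_part469 : allFrom 225120 480 pointOk = true := by decide +kernel

theorem points_part470 : allFrom 225600 480 pointOk = true := by decide +kernel

theorem points_part471 : allFrom 226080 480 pointOk = true := by decide +kernel

theorem points_part472 : allFrom 226560 480 pointOk = true := by decide +kernel

theorem points_part473 : allFrom 227040 480 pointOk = true := by decide +kernel

theorem points_part474 : allFrom 227520 480 pointOk = true := by decide +kernel

theorem points_part475 : allFrom 228000 480 pointOk = true := by decide +kernel

theorem points_part476 : allFrom 228480 480 pointOk = true := by decide +kernel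

theorem points_part477 : allFrom 228960 480 pointOk = true := by decide +kernel

theorem points_part478 : allFrom 229440 480 pointOk = true := by decide +kernel

theorem points_part479 : allFrom 229920 480 pointOk = true := by decide +kernel

/-- The points checked in this file. -/
theorem range29 : ∀ i, 222720 ≤ i → i < 230400 → pointOk i = true := by
  intro i h1 h2
  by_cases h : i < 223200
  · exact CosetEnum.allFrom_iff.1 points_part464 i (by omega) (by omega)
  by_cases h : i < 223680
  · exact CosetEnum.allFrom_iff.1 points_part465 i (by omega) (by omega)
  by_cases h : i < 224160
  · exact CosetEnum.allFrom_iff.1 points_part466 i (by omega) (by omega)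
  by_cases h : i < 224640
  · exact CosetEnum.allFrom_iff.1 points_part467 i (by omega) (by omega)
  by_cases h : i < 225120
  · exact CosetEnum.allFrom_iff.1 points_part468 i (by omega) (by omega)
  by_cases h : i < 225600
  · exact CosetEnum.allFrom_iff.1 points_part469 i (by omega) (by omega)
  by_cases h : i < 226080
  · exact CosetEnum.allFrom_iff.1 points_part470 i (by omega) (by omega)
  by_cases h : i < 226560
  · exact CosetEnum.allFrom_iff.1 points_part471 i (by omega) (by omega)
  by_cases h : i < 227040
  · exact CosetEnum.allFrom_iff.1 points_part472 i (by omega) (by omega)
  by_cases h : i < 227520
  · exact CosetEnum.allFrom_iff.1 points_part473 i (by omega) (by omega)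
  by_cases h : i < 228000
  · exact CosetEnum.allFrom_iff.1 points_part474 i (by omega) (by omega)
  by_cases h : i < 228480
  · exact CosetEnum.allFrom_iff.1 points_part475 i (by omega) (by omega)
  by_cases h : i < 228960
  · exact CosetEnum.allFrom_iff.1 points_part476 i (by omega) (by omega)
  by_cases h : i < 229440
  · exact CosetEnum.allFrom_iff.1 points_part477 i (by omega) (by omega)
  by_cases h : i < 229920
  · exact CosetEnum.allFrom_iff.1 points_part478 i (by omega) (by omega)
  exact CosetEnum.allFrom_iff.1 points_part479 i (by omega) (by omega)

end Cfsg.Agent.Lib.Fi24
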