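import Cfsg.Agent.Lib.Fi24.Points

/-! Checks of the certificate, part 3. -/

set_option autoImplicit false
set_option maxRecDepth 20000
set_option Elab.async false

namespace Cfsg.Agent.Lib.Fi24

open Cfsg.Agent.Lib.CosetEnum (allBelow allFrom)

theorem points_part48 : allFrom 23040 480 pointOk = true := by decide +kernel

theorem points_part49 : allFrom 23520 480 pointOk = true := by decide +kernel

theorem points_part50 : allFrom 24000 480 pointOk = true := by decide +kernel

theorem points_part51 : allFrom 24480 480 pointOk = true := by decide +kernel

theorem points_part52 : allFrom 24960 480 pointOk = true := by decide +kernel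

theorem points_part53 : allFrom 25440 480 pointOk = true := by decide +kernel

theorem points_part54 : allFrom 25920 480 pointOk = true := by decide +kernel

theorem points_part55 : allFrom 26400 480 pointOk = true := by decide +kernel

theorem points_part56 : allFrom 26880 480 pointOk = true := by decide +kernel

theorem points_part57 : allFrom 27360 480 pointOk = true := by decide +kernel

theorem points_part58 : allFrom 27840 480 pointOk = true := by decide +kernel

theorem points_part59 : allFrom 28320 480 pointOk = true := by decide +kernel

theorem points_part60 : allFrom 28800 480 pointOk = true := by decide +kernel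

theorem points_part61 : allFrom 29280 480 pointOk = true := by decide +kernel

theorem points_part62 : allFrom 29760 480 pointOk = true := by decide +kernel

theorem points_part63 : allFrom 30240 480 pointOk = true := by decide +kernel

/-- The points checked in this file. -/
theorem range3 : ∀ i, 23040 ≤ i → i < 30720 → pointOk i = true := by
  intro i h1 h2
  by_cases h : i < 23520
  · exact CosetEnum.allFrom_iff.1 points_part48 i (by omega) (by omega)
  by_cases h : i < 24000
  · exact CosetEnum.allFrom_iff.1 points_part49 i (by omega) (by omega)
  by_cases h : i < 24480
  · exact CosetEnum.allFrom_iff.1 points_part50 i (by omega) (by omega)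
  by_cases h : i < 24960
  · exact CosetEnum.allFrom_iff.1 points_part51 i (by omega) (by omega)
  by_cases h : i < 25440
  · exact CosetEnum.allFrom_iff.1 points_part52 i (by omega) (by omega)
  by_cases h : i < 25920
  · exact CosetEnum.allFrom_iff.1 points_part53 i (by omega) (by omega)
  by_cases h : i < 26400
  · exact CosetEnum.allFrom_iff.1 points_part54 i (by omega) (by omega)
  by_cases h : i < 26880
  · exact CosetEnum.allFrom_iff.1 points_part55 i (by omega) (by omega)
  by_cases h : i < 27360
  · exact CosetEnum.allFrom_iff.1 points_part56 i (by omega) (by omega)
  by_cases h : i < 27840
  · exact CosetEnum.allFrom_iff.1 points_part57 i (by omega) (by omega)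
  by_cases h : i < 28320
  · exact CosetEnum.allFrom_iff.1 points_part58 i (by omega) (by omega)
  by_cases h : i < 28800
  · exact CosetEnum.allFrom_iff.1 points_part59 i (by omega) (by omega)
  by_cases h : i < 29280
  · exact CosetEnum.allFrom_iff.1 points_part60 i (by omega) (by omega)
  by_cases h : i < 29760
  · exact CosetEnum.allFrom_iff.1 points_part61 i (by omega) (by omega)
  by_cases h : i < 30240
  · exact CosetEnum.allFrom_iff.1 points_part62 i (by omega) (by omega)
  exact CosetEnum.allFrom_iff.1 points_part63 i (by omega) (by omega)

end Cfsg.Agent.Lib.Fi24
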