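import Cfsg.Agent.Lib.Fi24.Points

/-! Checks of the certificate, part 30. -/

set_option autoImplicit false
set_option maxRecDepth 20000
set_option Elab.async false

namespace Cfsg.Agent.Lib.Fi24

open Cfsg.Agent.Lib.CosetEnum (allBelow allFrom)

theorem points_part480 : allFrom 230400 480 pointOk = true := by decide +kernel

theorem points_part481 : allFrom 230880 480 pointOk = true := by decide +kernel

theorem points_part482 : allFrom 231360 480 pointOk = true := by decide +kernel

theorem points_part483 : allFrom 231840 480 pointOk = true := by decide +kernel

theorem points_part484 : allFrom 232320 480 pointOk = true := by decide +kernel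

theorem points_part485 : allFrom 232800 480 pointOk = true := by decide +kernel

theorem points_part486 : allFrom 233280 480 pointOk = true := by decide +kernel

theorem points_part487 : allFrom 233760 480 pointOk = true := by decide +kernel

theorem points_part488 : allFrom 234240 480 pointOk = true := by decide +kernel

theorem points_part489 : allFrom 234720 480 pointOk = true := by decide +kernel

theorem points_part490 : allFrom 235200 480 pointOk = true := by decide +kernel

theorem points_part491 : allFrom 235680 480 pointOk = true := by decide +kernel

theorem points_part492 : allFrom 236160 480 pointOk = true := by decide +kernel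

theorem points_part493 : allFrom 236640 480 pointOk = true := by decide +kernel

theorem points_part494 : allFrom 237120 480 pointOk = true := by decide +kernel

theorem points_part495 : allFrom 237600 480 pointOk = true := by decide +kernel

/-- The points checked in this file. -/
theorem range30 : ∀ i, 230400 ≤ i → i < 238080 → pointOk i = true := by
  intro i h1 h2
  by_cases h : i < 230880
  · exact CosetEnum.allFrom_iff.1 points_part480 i (by omega) (by omega)
  by_cases h : i < 231360
  · exact CosetEnum.allFrom_iff.1 points_part481 i (by omega) (by omega)
  by_cases h : i < 231840
  · exact CosetEnum.allFrom_iff.1 points_part482 i (by omega) (by omega)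
  by_cases h : i < 232320
  · exact CosetEnum.allFrom_iff.1 points_part483 i (by omega) (by omega)
  by_cases h : i < 232800
  · exact CosetEnum.allFrom_iff.1 points_part484 i (by omega) (by omega)
  by_cases h : i < 233280
  · exact CosetEnum.allFrom_iff.1 points_part485 i (by omega) (by omega)
  by_cases h : i < 233760
  · exact CosetEnum.allFrom_iff.1 points_part486 i (by omega) (by omega)
  by_cases h : i < 234240
  · exact CosetEnum.allFrom_iff.1 points_part487 i (by omega) (by omega)
  by_cases h : i < 234720
  · exact CosetEnum.allFrom_iff.1 points_part488 i (by omega) (by omega)
  by_cases h : i < 235200
  · exact CosetEnum.allFrom_iff.1 points_part489 i (by omega) (by omega)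
  by_cases h : i < 235680
  · exact CosetEnum.allFrom_iff.1 points_part490 i (by omega) (by omega)
  by_cases h : i < 236160
  · exact CosetEnum.allFrom_iff.1 points_part491 i (by omega) (by omega)
  by_cases h : i < 236640
  · exact CosetEnum.allFrom_iff.1 points_part492 i (by omega) (by omega)
  by_cases h : i < 237120
  · exact CosetEnum.allFrom_iff.1 points_part493 i (by omega) (by omega)
  by_cases h : i < 237600
  · exact CosetEnum.allFrom_iff.1 points_part494 i (by omega) (by omega)
  exact CosetEnum.allFrom_iff.1 points_part495 i (by omega) (by omega)

end Cfsg.Agent.Lib.Fi24
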