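import Cfsg.Agent.Lib.Fi24.Points

/-! Checks of the certificate, part 31. -/

set_option autoImplicit false
set_option maxRecDepth 20000
set_option Elab.async false

namespace Cfsg.Agent.Lib.Fi24

open Cfsg.Agent.Lib.CosetEnum (allBelow allFrom)

theorem points_part496 : allFrom 238080 480 pointOk = true := by decide +kernel

theorem points_part497 : allFrom 238560 480 pointOk = true := by decide +kernel

theorem points_part498 : allFrom 239040 480 pointOk = true := by decide +kernel

theorem points_part499 : allFrom 239520 480 pointOk = true := by decide +kernel

theorem points_part500 : allFrom 240000 480 pointOk = true := by decide +kernel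

theorem points_part501 : allFrom 240480 480 pointOk = true := by decide +kernel

theorem points_part502 : allFrom 240960 480 pointOk = true := by decide +kernel

theorem points_part503 : allFrom 241440 480 pointOk = true := by decide +kernel

theorem points_part504 : allFrom 241920 480 pointOk = true := by decide +kernel

theorem points_part505 : allFrom 242400 480 pointOk = true := by decide +kernel

theorem points_part506 : allFrom 242880 480 pointOk = true := by decide +kernel

theorem points_part507 : allFrom 243360 480 pointOk = true := by decide +kernel

theorem points_part508 : allFrom 243840 480 pointOk = true := by decide +kernel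

theorem points_part509 : allFrom 244320 480 pointOk = true := by decide +kernel

theorem points_part510 : allFrom 244800 480 pointOk = true := by decide +kernel

theorem points_part511 : allFrom 245280 480 pointOk = true := by decide +kernel

/-- The points checked in this file. -/
theorem range31 : ∀ i, 238080 ≤ i → i < 245760 → pointOk i = true := by
  intro i h1 h2
  by_cases h : i < 238560
  · exact CosetEnum.allFrom_iff.1 points_part496 i (by omega) (by omega)
  by_cases h : i < 239040
  · exact CosetEnum.allFrom_iff.1 points_part497 i (by omega) (by omega)
  by_cases h : i < 239520
  · exact CosetEnum.allFrom_iff.1 points_part498 i (by omega) (by omega)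
  by_cases h : i < 240000
  · exact CosetEnum.allFrom_iff.1 points_part499 i (by omega) (by omega)
  by_cases h : i < 240480
  · exact CosetEnum.allFrom_iff.1 points_part500 i (by omega) (by omega)
  by_cases h : i < 240960
  · exact CosetEnum.allFrom_iff.1 points_part501 i (by omega) (by omega)
  by_cases h : i < 241440
  · exact CosetEnum.allFrom_iff.1 points_part502 i (by omega) (by omega)
  by_cases h : i < 241920
  · exact CosetEnum.allFrom_iff.1 points_part503 i (by omega) (by omega)
  by_cases h : i < 242400
  · exact CosetEnum.allFrom_iff.1 points_part504 i (by omega) (by omega)
  by_cases h : i < 242880
  · exact CosetEnum.allFrom_iff.1 points_part505 i (by omega) (by omega)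
  by_cases h : i < 243360
  · exact CosetEnum.allFrom_iff.1 points_part506 i (by omega) (by omega)
  by_cases h : i < 243840
  · exact CosetEnum.allFrom_iff.1 points_part507 i (by omega) (by omega)
  by_cases h : i < 244320
  · exact CosetEnum.allFrom_iff.1 points_part508 i (by omega) (by omega)
  by_cases h : i < 244800
  · exact CosetEnum.allFrom_iff.1 points_part509 i (by omega) (by omega)
  by_cases h : i < 245280
  · exact CosetEnum.allFrom_iff.1 points_part510 i (by omega) (by omega)
  exact CosetEnum.allFrom_iff.1 points_part511 i (by omega) (by omega)

end Cfsg.Agent.Lib.Fi24
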