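import Cfsg.Agent.Lib.Fi24.Points

/-! Checks of the certificate, part 32. -/

set_option autoImplicit false
set_option maxRecDepth 20000
set_option Elab.async false

namespace Cfsg.Agent.Lib.Fi24

open Cfsg.Agent.Lib.CosetEnum (allBelow allFrom)

theorem points_part512 : allFrom 245760 480 pointOk = true := by decide +kernel

theorem points_part513 : allFrom 246240 480 pointOk = true := by decide +kernel

theorem points_part514 : allFrom 246720 480 pointOk = true := by decide +kernel

theorem points_part515 : allFrom 247200 480 pointOk = true := by decide +kernel

theorem points_part516 : allFrom 247680 480 pointOk = true := by decide +kernel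

theorem points_part517 : allFrom 248160 480 pointOk = true := by decide +kernel

theorem points_part518 : allFrom 248640 480 pointOk = true := by decide +kernel

theorem points_part519 : allFrom 249120 480 pointOk = true := by decide +kernel

theorem points_part520 : allFrom 249600 480 pointOk = true := by decide +kernel

theorem points_part521 : allFrom 250080 480 pointOk = true := by decide +kernel

theorem points_part522 : allFrom 250560 480 pointOk = true := by decide +kernel

theorem points_part523 : allFrom 251040 480 pointOk = true := by decide +kernel

theorem points_part524 : allFrom 251520 480 pointOk = true := by decide +kernel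

theorem points_part525 : allFrom 252000 480 pointOk = true := by decide +kernel

theorem points_part526 : allFrom 252480 480 pointOk = true := by decide +kernel

theorem points_part527 : allFrom 252960 480 pointOk = true := by decide +kernel

/-- The points checked in this file. -/
theorem range32 : ∀ i, 245760 ≤ i → i < 253440 → pointOk i = true := by
  intro i h1 h2
  by_cases h : i < 246240
  · exact CosetEnum.allFrom_iff.1 points_part512 i (by omega) (by omega)
  by_cases h : i < 246720
  · exact CosetEnum.allFrom_iff.1 points_part513 i (by omega) (by omega)
  by_cases h : i < 247200
  · exact CosetEnum.allFrom_iff.1 points_part514 i (by omega) (by omega)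
  by_cases h : i < 247680
  · exact CosetEnum.allFrom_iff.1 points_part515 i (by omega) (by omega)
  by_cases h : i < 248160
  · exact CosetEnum.allFrom_iff.1 points_part516 i (by omega) (by omega)
  by_cases h : i < 248640
  · exact CosetEnum.allFrom_iff.1 points_part517 i (by omega) (by omega)
  by_cases h : i < 249120
  · exact CosetEnum.allFrom_iff.1 points_part518 i (by omega) (by omega)
  by_cases h : i < 249600
  · exact CosetEnum.allFrom_iff.1 points_part519 i (by omega) (by omega)
  by_cases h : i < 250080
  · exact CosetEnum.allFrom_iff.1 points_part520 i (by omega) (by omega)
  by_cases h : i < 250560
  · exact CosetEnum.allFrom_iff.1 points_part521 i (by omega) (by omega)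
  by_cases h : i < 251040
  · exact CosetEnum.allFrom_iff.1 points_part522 i (by omega) (by omega)
  by_cases h : i < 251520
  · exact CosetEnum.allFrom_iff.1 points_part523 i (by omega) (by omega)
  by_cases h : i < 252000
  · exact CosetEnum.allFrom_iff.1 points_part524 i (by omega) (by omega)
  by_cases h : i < 252480
  · exact CosetEnum.allFrom_iff.1 points_part525 i (by omega) (by omega)
  by_cases h : i < 252960
  · exact CosetEnum.allFrom_iff.1 points_part526 i (by omega) (by omega)
  exact CosetEnum.allFrom_iff.1 points_part527 i (by omega) (by omega)

end Cfsg.Agent.Lib.Fi24
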