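import Cfsg.Agent.Lib.Fi24.Points

/-! Checks of the certificate, part 33. -/

set_option autoImplicit false
set_option maxRecDepth 20000
set_option Elab.async false

namespace Cfsg.Agent.Lib.Fi24

open Cfsg.Agent.Lib.CosetEnum (allBelow allFrom)

theorem points_part528 : allFrom 253440 480 pointOk = true := by decide +kernel

theorem points_part529 : allFrom 253920 480 pointOk = true := by decide +kernel

theorem points_part530 : allFrom 254400 480 pointOk = true := by decide +kernel

theorem points_part531 : allFrom 254880 480 pointOk = true := by decide +kernel

theorem points_part532 : allFrom 255360 480 pointOk = true := by decide +kernel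

theorem points_part533 : allFrom 255840 480 pointOk = true := by decide +kernel

theorem points_part534 : allFrom 256320 480 pointOk = true := by decide +kernel

theorem points_part535 : allFrom 256800 480 pointOk = true := by decide +kernel

theorem points_part536 : allFrom 257280 480 pointOk = true := by decide +kernel

theorem points_part537 : allFrom 257760 480 pointOk = true := by decide +kernel

theorem points_part538 : allFrom 258240 480 pointOk = true := by decide +kernel

theorem points_part539 : allFrom 258720 480 pointOk = true := by decide +kernel

theorem points_part540 : allFrom 259200 480 pointOk = true := by decide +kernel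

theorem points_part541 : allFrom 259680 480 pointOk = true := by decide +kernel

theorem points_part542 : allFrom 260160 480 pointOk = true := by decide +kernel

theorem points_part543 : allFrom 260640 480 pointOk = true := by decide +kernel

/-- The points checked in this file. -/
theorem range33 : ∀ i, 253440 ≤ i → i < 261120 → pointOk i = true := by
  intro i h1 h2
  by_cases h : i < 253920
  · exact CosetEnum.allFrom_iff.1 points_part528 i (by omega) (by omega)
  by_cases h : i < 254400
  · exact CosetEnum.allFrom_iff.1 points_part529 i (by omega) (by omega)
  by_cases h : i < 254880
  · exact CosetEnum.allFrom_iff.1 points_part530 i (by omega) (by omega)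
  by_cases h : i < 255360
  · exact CosetEnum.allFrom_iff.1 points_part531 i (by omega) (by omega)
  by_cases h : i < 255840
  · exact CosetEnum.allFrom_iff.1 points_part532 i (by omega) (by omega)
  by_cases h : i < 256320
  · exact CosetEnum.allFrom_iff.1 points_part533 i (by omega) (by omega)
  by_cases h : i < 256800
  · exact CosetEnum.allFrom_iff.1 points_part534 i (by omega) (by omega)
  by_cases h : i < 257280
  · exact CosetEnum.allFrom_iff.1 points_part535 i (by omega) (by omega)
  by_cases h : i < 257760
  · exact CosetEnum.allFrom_iff.1 points_part536 i (by omega) (by omega)
  by_cases h : i < 258240
  · exact CosetEnum.allFrom_iff.1 points_part537 i (by omega) (by omega)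
  by_cases h : i < 258720
  · exact CosetEnum.allFrom_iff.1 points_part538 i (by omega) (by omega)
  by_cases h : i < 259200
  · exact CosetEnum.allFrom_iff.1 points_part539 i (by omega) (by omega)
  by_cases h : i < 259680
  · exact CosetEnum.allFrom_iff.1 points_part540 i (by omega) (by omega)
  by_cases h : i < 260160
  · exact CosetEnum.allFrom_iff.1 points_part541 i (by omega) (by omega)
  by_cases h : i < 260640
  · exact CosetEnum.allFrom_iff.1 points_part542 i (by omega) (by omega)
  exact CosetEnum.allFrom_iff.1 points_part543 i (by omega) (by omega)

end Cfsg.Agent.Lib.Fi24
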