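import Cfsg.Agent.Lib.Fi24.Points

/-! Checks of the certificate, part 34. -/

set_option autoImplicit false
set_option maxRecDepth 20000
set_option Elab.async false

namespace Cfsg.Agent.Lib.Fi24

open Cfsg.Agent.Lib.CosetEnum (allBelow allFrom)

theorem points_part544 : allFrom 261120 480 pointOk = true := by decide +kernel

theorem points_part545 : allFrom 261600 480 pointOk = true := by decide +kernel

theorem points_part546 : allFrom 262080 480 pointOk = true := by decide +kernel

theorem points_part547 : allFrom 262560 480 pointOk = true := by decide +kernel

theorem points_part548 : allFrom 263040 480 pointOk = true := by decide +kernel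

theorem points_part549 : allFrom 263520 480 pointOk = true := by decide +kernel

theorem points_part550 : allFrom 264000 480 pointOk = true := by decide +kernel

theorem points_part551 : allFrom 264480 480 pointOk = true := by decide +kernel

theorem points_part552 : allFrom 264960 480 pointOk = true := by decide +kernel

theorem points_part553 : allFrom 265440 480 pointOk = true := by decide +kernel

theorem points_part554 : allFrom 265920 480 pointOk = true := by decide +kernel

theorem points_part555 : allFrom 266400 480 pointOk = true := by decide +kernel

theorem points_part556 : allFrom 266880 480 pointOk = true := by decide +kernel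

theorem points_part557 : allFrom 267360 480 pointOk = true := by decide +kernel

theorem points_part558 : allFrom 267840 480 pointOk = true := by decide +kernel

theorem points_part559 : allFrom 268320 480 pointOk = true := by decide +kernel

/-- The points checked in this file. -/
theorem range34 : ∀ i, 261120 ≤ i → i < 268800 → pointOk i = true := by
  intro i h1 h2
  by_cases h : i < 261600
  · exact CosetEnum.allFrom_iff.1 points_part544 i (by omega) (by omega)
  by_cases h : i < 262080
  · exact CosetEnum.allFrom_iff.1 points_part545 i (by omega) (by omega)
  by_cases h : i < 262560
  · exact CosetEnum.allFrom_iff.1 points_part546 i (by omega) (by omega)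
  by_cases h : i < 263040
  · exact CosetEnum.allFrom_iff.1 points_part547 i (by omega) (by omega)
  by_cases h : i < 263520
  · exact CosetEnum.allFrom_iff.1 points_part548 i (by omega) (by omega)
  by_cases h : i < 264000
  · exact CosetEnum.allFrom_iff.1 points_part549 i (by omega) (by omega)
  by_cases h : i < 264480
  · exact CosetEnum.allFrom_iff.1 points_part550 i (by omega) (by omega)
  by_cases h : i < 264960
  · exact CosetEnum.allFrom_iff.1 points_part551 i (by omega) (by omega)
  by_cases h : i < 265440
  · exact CosetEnum.allFrom_iff.1 points_part552 i (by omega) (by omega)
  by_cases h : i < 265920
  · exact CosetEnum.allFrom_iff.1 points_part553 i (by omega) (by omega)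
  by_cases h : i < 266400
  · exact CosetEnum.allFrom_iff.1 points_part554 i (by omega) (by omega)
  by_cases h : i < 266880
  · exact CosetEnum.allFrom_iff.1 points_part555 i (by omega) (by omega)
  by_cases h : i < 267360
  · exact CosetEnum.allFrom_iff.1 points_part556 i (by omega) (by omega)
  by_cases h : i < 267840
  · exact CosetEnum.allFrom_iff.1 points_part557 i (by omega) (by omega)
  by_cases h : i < 268320
  · exact CosetEnum.allFrom_iff.1 points_part558 i (by omega) (by omega)
  exact CosetEnum.allFrom_iff.1 points_part559 i (by omega) (by omega)

end Cfsg.Agent.Lib.Fi24
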