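import Cfsg.Agent.Lib.Fi24.Points

/-! Checks of the certificate, part 35. -/

set_option autoImplicit false
set_option maxRecDepth 20000
set_option Elab.async false

namespace Cfsg.Agent.Lib.Fi24

open Cfsg.Agent.Lib.CosetEnum (allBelow allFrom)

theorem points_part560 : allFrom 268800 480 pointOk = true := by decide +kernel

theorem points_part561 : allFrom 269280 480 pointOk = true := by decide +kernel

theorem points_part562 : allFrom 269760 480 pointOk = true := by decide +kernel

theorem points_part563 : allFrom 270240 480 pointOk = true := by decide +kernel

theorem points_part564 : allFrom 270720 480 pointOk = true := by decide +kernel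

theorem points_part565 : allFrom 271200 480 pointOk = true := by decide +kernel

theorem points_part566 : allFrom 271680 480 pointOk = true := by decide +kernel

theorem points_part567 : allFrom 272160 480 pointOk = true := by decide +kernel

theorem points_part568 : allFrom 272640 480 pointOk = true := by decide +kernel

theorem points_part569 : allFrom 273120 480 pointOk = true := by decide +kernel

theorem points_part570 : allFrom 273600 480 pointOk = true := by decide +kernel

theorem points_part571 : allFrom 274080 480 pointOk = true := by decide +kernel

theorem points_part572 : allFrom 274560 480 pointOk = true := by decide +kernel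

theorem points_part573 : allFrom 275040 480 pointOk = true := by decide +kernel

theorem points_part574 : allFrom 275520 480 pointOk = true := by decide +kernel

theorem points_part575 : allFrom 276000 480 pointOk = true := by decide +kernel

/-- The points checked in this file. -/
theorem range35 : ∀ i, 268800 ≤ i → i < 276480 → pointOk i = true := by
  intro i h1 h2
  by_cases h : i < 269280
  · exact CosetEnum.allFrom_iff.1 points_part560 i (by omega) (by omega)
  by_cases h : i < 269760
  · exact CosetEnum.allFrom_iff.1 points_part561 i (by omega) (by omega)
  by_cases h : i < 270240
  · exact CosetEnum.allFrom_iff.1 points_part562 i (by omega) (by omega)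
  by_cases h : i < 270720
  · exact CosetEnum.allFrom_iff.1 points_part563 i (by omega) (by omega)
  by_cases h : i < 271200
  · exact CosetEnum.allFrom_iff.1 points_part564 i (by omega) (by omega)
  by_cases h : i < 271680
  · exact CosetEnum.allFrom_iff.1 points_part565 i (by omega) (by omega)
  by_cases h : i < 272160
  · exact CosetEnum.allFrom_iff.1 points_part566 i (by omega) (by omega)
  by_cases h : i < 272640
  · exact CosetEnum.allFrom_iff.1 points_part567 i (by omega) (by omega)
  by_cases h : i < 273120
  · exact CosetEnum.allFrom_iff.1 points_part568 i (by omega) (by omega)
  by_cases h : i < 273600
  · exact CosetEnum.allFrom_iff.1 points_part569 i (by omega) (by omega)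
  by_cases h : i < 274080
  · exact CosetEnum.allFrom_iff.1 points_part570 i (by omega) (by omega)
  by_cases h : i < 274560
  · exact CosetEnum.allFrom_iff.1 points_part571 i (by omega) (by omega)
  by_cases h : i < 275040
  · exact CosetEnum.allFrom_iff.1 points_part572 i (by omega) (by omega)
  by_cases h : i < 275520
  · exact CosetEnum.allFrom_iff.1 points_part573 i (by omega) (by omega)
  by_cases h : i < 276000
  · exact CosetEnum.allFrom_iff.1 points_part574 i (by omega) (by omega)
  exact CosetEnum.allFrom_iff.1 points_part575 i (by omega) (by omega)

end Cfsg.Agent.Lib.Fi24
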