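import Cfsg.Agent.Lib.Fi24.Points

/-! Checks of the certificate, part 36. -/

set_option autoImplicit false
set_option maxRecDepth 20000
set_option Elab.async false

namespace Cfsg.Agent.Lib.Fi24

open Cfsg.Agent.Lib.CosetEnum (allBelow allFrom)

theorem points_part576 : allFrom 276480 480 pointOk = true := by decide +kernel

theorem points_part577 : allFrom 276960 480 pointOk = true := by decide +kernel

theorem points_part578 : allFrom 277440 480 pointOk = true := by decide +kernel

theorem points_part579 : allFrom 277920 480 pointOk = true := by decide +kernel

theorem points_part580 : allFrom 278400 480 pointOk = true := by decide +kernel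

theorem points_part581 : allFrom 278880 480 pointOk = true := by decide +kernel

theorem points_part582 : allFrom 279360 480 pointOk = true := by decide +kernel

theorem points_part583 : allFrom 279840 480 pointOk = true := by decide +kernel

theorem points_part584 : allFrom 280320 480 pointOk = true := by decide +kernel

theorem points_part585 : allFrom 280800 480 pointOk = true := by decide +kernel

theorem points_part586 : allFrom 281280 480 pointOk = true := by decide +kernel

theorem points_part587 : allFrom 281760 480 pointOk = true := by decide +kernel

theorem points_part588 : allFrom 282240 480 pointOk = true := by decide +kernel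

theorem points_part589 : allFrom 282720 480 pointOk = true := by decide +kernel

theorem points_part590 : allFrom 283200 480 pointOk = true := by decide +kernel

theorem points_part591 : allFrom 283680 480 pointOk = true := by decide +kernel

/-- The points checked in this file. -/
theorem range36 : ∀ i, 276480 ≤ i → i < 284160 → pointOk i = true := by
  intro i h1 h2
  by_cases h : i < 276960
  · exact CosetEnum.allFrom_iff.1 points_part576 i (by omega) (by omega)
  by_cases h : i < 277440
  · exact CosetEnum.allFrom_iff.1 points_part577 i (by omega) (by omega)
  by_cases h : i < 277920
  · exact CosetEnum.allFrom_iff.1 points_part578 i (by omega) (by omega)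
  by_cases h : i < 278400
  · exact CosetEnum.allFrom_iff.1 points_part579 i (by omega) (by omega)
  by_cases h : i < 278880
  · exact CosetEnum.allFrom_iff.1 points_part580 i (by omega) (by omega)
  by_cases h : i < 279360
  · exact CosetEnum.allFrom_iff.1 points_part581 i (by omega) (by omega)
  by_cases h : i < 279840
  · exact CosetEnum.allFrom_iff.1 points_part582 i (by omega) (by omega)
  by_cases h : i < 280320
  · exact CosetEnum.allFrom_iff.1 points_part583 i (by omega) (by omega)
  by_cases h : i < 280800
  · exact CosetEnum.allFrom_iff.1 points_part584 i (by omega) (by omega)
  by_cases h : i < 281280
  · exact CosetEnum.allFrom_iff.1 points_part585 i (by omega) (by omega)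
  by_cases h : i < 281760
  · exact CosetEnum.allFrom_iff.1 points_part586 i (by omega) (by omega)
  by_cases h : i < 282240
  · exact CosetEnum.allFrom_iff.1 points_part587 i (by omega) (by omega)
  by_cases h : i < 282720
  · exact CosetEnum.allFrom_iff.1 points_part588 i (by omega) (by omega)
  by_cases h : i < 283200
  · exact CosetEnum.allFrom_iff.1 points_part589 i (by omega) (by omega)
  by_cases h : i < 283680
  · exact CosetEnum.allFrom_iff.1 points_part590 i (by omega) (by omega)
  exact CosetEnum.allFrom_iff.1 points_part591 i (by omega) (by omega)

end Cfsg.Agent.Lib.Fi24
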