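import Cfsg.Agent.Lib.Fi24.Points

/-! Checks of the certificate, part 37. -/

set_option autoImplicit false
set_option maxRecDepth 20000
set_option Elab.async false

namespace Cfsg.Agent.Lib.Fi24

open Cfsg.Agent.Lib.CosetEnum (allBelow allFrom)

theorem points_part592 : allFrom 284160 480 pointOk = true := by decide +kernel

theorem points_part593 : allFrom 284640 480 pointOk = true := by decide +kernel

theorem points_part594 : allFrom 285120 480 pointOk = true := by decide +kernel

theorem points_part595 : allFrom 285600 480 pointOk = true := by decide +kernel

theorem points_part596 : allFrom 286080 480 pointOk = true := by decide +kernel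

theorem points_part597 : allFrom 286560 480 pointOk = true := by decide +kernel

theorem points_part598 : allFrom 287040 480 pointOk = true := by decide +kernel

theorem points_part599 : allFrom 287520 480 pointOk = true := by decide +kernel

theorem points_part600 : allFrom 288000 480 pointOk = true := by decide +kernel

theorem points_part601 : allFrom 288480 480 pointOk = true := by decide +kernel

theorem points_part602 : allFrom 288960 480 pointOk = true := by decide +kernel

theorem points_part603 : allFrom 289440 480 pointOk = true := by decide +kernel

theorem points_part604 : allFrom 289920 480 pointOk = true := by decide +kernel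

theorem points_part605 : allFrom 290400 480 pointOk = true := by decide +kernel

theorem points_part606 : allFrom 290880 480 pointOk = true := by decide +kernel

theorem points_part607 : allFrom 291360 480 pointOk = true := by decide +kernel

/-- The points checked in this file. -/
theorem range37 : ∀ i, 284160 ≤ i → i < 291840 → pointOk i = true := by
  intro i h1 h2
  by_cases h : i < 284640
  · exact CosetEnum.allFrom_iff.1 points_part592 i (by omega) (by omega)
  by_cases h : i < 285120
  · exact CosetEnum.allFrom_iff.1 points_part593 i (by omega) (by omega)
  by_cases h : i < 285600
  · exact CosetEnum.allFrom_iff.1 points_part594 i (by omega) (by omega)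
  by_cases h : i < 286080
  · exact CosetEnum.allFrom_iff.1 points_part595 i (by omega) (by omega)
  by_cases h : i < 286560
  · exact CosetEnum.allFrom_iff.1 points_part596 i (by omega) (by omega)
  by_cases h : i < 287040
  · exact CosetEnum.allFrom_iff.1 points_part597 i (by omega) (by omega)
  by_cases h : i < 287520
  · exact CosetEnum.allFrom_iff.1 points_part598 i (by omega) (by omega)
  by_cases h : i < 288000
  · exact CosetEnum.allFrom_iff.1 points_part599 i (by omega) (by omega)
  by_cases h : i < 288480
  · exact CosetEnum.allFrom_iff.1 points_part600 i (by omega) (by omega)
  by_cases h : i < 288960
  · exact CosetEnum.allFrom_iff.1 points_part601 i (by omega) (by omega)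
  by_cases h : i < 289440
  · exact CosetEnum.allFrom_iff.1 points_part602 i (by omega) (by omega)
  by_cases h : i < 289920
  · exact CosetEnum.allFrom_iff.1 points_part603 i (by omega) (by omega)
  by_cases h : i < 290400
  · exact CosetEnum.allFrom_iff.1 points_part604 i (by omega) (by omega)
  by_cases h : i < 290880
  · exact CosetEnum.allFrom_iff.1 points_part605 i (by omega) (by omega)
  by_cases h : i < 291360
  · exact CosetEnum.allFrom_iff.1 points_part606 i (by omega) (by omega)
  exact CosetEnum.allFrom_iff.1 points_part607 i (by omega) (by omega)

end Cfsg.Agent.Lib.Fi24
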