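import Cfsg.Agent.Lib.Fi24.Points

/-! Checks of the certificate, part 38. -/

set_option autoImplicit false
set_option maxRecDepth 20000
set_option Elab.async false

namespace Cfsg.Agent.Lib.Fi24

open Cfsg.Agent.Lib.CosetEnum (allBelow allFrom)

theorem points_part608 : allFrom 291840 480 pointOk = true := by decide +kernel

theorem points_part609 : allFrom 292320 480 pointOk = true := by decide +kernel

theorem points_part610 : allFrom 292800 480 pointOk = true := by decide +kernel

theorem points_part611 : allFrom 293280 480 pointOk = true := by decide +kernel

theorem points_part612 : allFrom 293760 480 pointOk = true := by decide +kernel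

theorem points_part613 : allFrom 294240 480 pointOk = true := by decide +kernel

theorem points_part614 : allFrom 294720 480 pointOk = true := by decide +kernel

theorem points_part615 : allFrom 295200 480 pointOk = true := by decide +kernel

theorem points_part616 : allFrom 295680 480 pointOk = true := by decide +kernel

theorem points_part617 : allFrom 296160 480 pointOk = true := by decide +kernel

theorem points_part618 : allFrom 296640 480 pointOk = true := by decide +kernel

theorem points_part619 : allFrom 297120 480 pointOk = true := by decide +kernel

theorem points_part620 : allFrom 297600 480 pointOk = true := by decide +kernel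

theorem points_part621 : allFrom 298080 480 pointOk = true := by decide +kernel

theorem points_part622 : allFrom 298560 480 pointOk = true := by decide +kernel

theorem points_part623 : allFrom 299040 480 pointOk = true := by decide +kernel

/-- The points checked in this file. -/
theorem range38 : ∀ i, 291840 ≤ i → i < 299520 → pointOk i = true := by
  intro i h1 h2
  by_cases h : i < 292320
  · exact CosetEnum.allFrom_iff.1 points_part608 i (by omega) (by omega)
  by_cases h : i < 292800
  · exact CosetEnum.allFrom_iff.1 points_part609 i (by omega) (by omega)
  by_cases h : i < 293280
  · exact CosetEnum.allFrom_iff.1 points_part610 i (by omega) (by omega)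
  by_cases h : i < 293760
  · exact CosetEnum.allFrom_iff.1 points_part611 i (by omega) (by omega)
  by_cases h : i < 294240
  · exact CosetEnum.allFrom_iff.1 points_part612 i (by omega) (by omega)
  by_cases h : i < 294720
  · exact CosetEnum.allFrom_iff.1 points_part613 i (by omega) (by omega)
  by_cases h : i < 295200
  · exact CosetEnum.allFrom_iff.1 points_part614 i (by omega) (by omega)
  by_cases h : i < 295680
  · exact CosetEnum.allFrom_iff.1 points_part615 i (by omega) (by omega)
  by_cases h : i < 296160
  · exact CosetEnum.allFrom_iff.1 points_part616 i (by omega) (by omega)
  by_cases h : i < 296640
  · exact CosetEnum.allFrom_iff.1 points_part617 i (by omega) (by omega)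
  by_cases h : i < 297120
  · exact CosetEnum.allFrom_iff.1 points_part618 i (by omega) (by omega)
  by_cases h : i < 297600
  · exact CosetEnum.allFrom_iff.1 points_part619 i (by omega) (by omega)
  by_cases h : i < 298080
  · exact CosetEnum.allFrom_iff.1 points_part620 i (by omega) (by omega)
  by_cases h : i < 298560
  · exact CosetEnum.allFrom_iff.1 points_part621 i (by omega) (by omega)
  by_cases h : i < 299040
  · exact CosetEnum.allFrom_iff.1 points_part622 i (by omega) (by omega)
  exact CosetEnum.allFrom_iff.1 points_part623 i (by omega) (by omega)

end Cfsg.Agent.Lib.Fi24
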