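import Cfsg.Agent.Lib.Fi24.Points

/-! Checks of the certificate, part 39. -/

set_option autoImplicit false
set_option maxRecDepth 20000
set_option Elab.async false

namespace Cfsg.Agent.Lib.Fi24

open Cfsg.Agent.Lib.CosetEnum (allBelow allFrom)

theorem points_part624 : allFrom 299520 480 pointOk = true := by decide +kernel

theorem points_part625 : allFrom 300000 480 pointOk = true := by decide +kernel

theorem points_part626 : allFrom 300480 480 pointOk = true := by decide +kernel

theorem points_part627 : allFrom 300960 480 pointOk = true := by decide +kernel

theorem points_part628 : allFrom 301440 480 pointOk = true := by decide +kernel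

theorem points_part629 : allFrom 301920 480 pointOk = true := by decide +kernel

theorem points_part630 : allFrom 302400 480 pointOk = true := by decide +kernel

theorem points_part631 : allFrom 302880 480 pointOk = true := by decide +kernel

theorem points_part632 : allFrom 303360 480 pointOk = true := by decide +kernel

theorem points_part633 : allFrom 303840 480 pointOk = true := by decide +kernel

theorem points_part634 : allFrom 304320 480 pointOk = true := by decide +kernel

theorem points_part635 : allFrom 304800 480 pointOk = true := by decide +kernel

theorem points_part636 : allFrom 305280 480 pointOk = true := by decide +kernel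

theorem points_part637 : allFrom 305760 480 pointOk = true := by decide +kernel

theorem points_part638 : allFrom 306240 480 pointOk = true := by decide +kernel

theorem points_part639 : allFrom 306720 216 pointOk = true := by decide +kernel

/-- The points checked in this file. -/
theorem range39 : ∀ i, 299520 ≤ i → i < 306936 → pointOk i = true := by
  intro i h1 h2
  by_cases h : i < 300000
  · exact CosetEnum.allFrom_iff.1 points_part624 i (by omega) (by omega)
  by_cases h : i < 300480
  · exact CosetEnum.allFrom_iff.1 points_part625 i (by omega) (by omega)
  by_cases h : i < 300960
  · exact CosetEnum.allFrom_iff.1 points_part626 i (by omega) (by omega)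
  by_cases h : i < 301440
  · exact CosetEnum.allFrom_iff.1 points_part627 i (by omega) (by omega)
  by_cases h : i < 301920
  · exact CosetEnum.allFrom_iff.1 points_part628 i (by omega) (by omega)
  by_cases h : i < 302400
  · exact CosetEnum.allFrom_iff.1 points_part629 i (by omega) (by omega)
  by_cases h : i < 302880
  · exact CosetEnum.allFrom_iff.1 points_part630 i (by omega) (by omega)
  by_cases h : i < 303360
  · exact CosetEnum.allFrom_iff.1 points_part631 i (by omega) (by omega)
  by_cases h : i < 303840
  · exact CosetEnum.allFrom_iff.1 points_part632 i (by omega) (by omega)
  by_cases h : i < 304320
  · exact CosetEnum.allFrom_iff.1 points_part633 i (by omega) (by omega)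
  by_cases h : i < 304800
  · exact CosetEnum.allFrom_iff.1 points_part634 i (by omega) (by omega)
  by_cases h : i < 305280
  · exact CosetEnum.allFrom_iff.1 points_part635 i (by omega) (by omega)
  by_cases h : i < 305760
  · exact CosetEnum.allFrom_iff.1 points_part636 i (by omega) (by omega)
  by_cases h : i < 306240
  · exact CosetEnum.allFrom_iff.1 points_part637 i (by omega) (by omega)
  by_cases h : i < 306720
  · exact CosetEnum.allFrom_iff.1 points_part638 i (by omega) (by omega)
  exact CosetEnum.allFrom_iff.1 points_part639 i (by omega) (by omega)

end Cfsg.Agent.Lib.Fi24
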