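import Cfsg.Agent.Lib.Fi24.Points

/-! Checks of the certificate, part 4. -/

set_option autoImplicit false
set_option maxRecDepth 20000
set_option Elab.async false

namespace Cfsg.Agent.Lib.Fi24

open Cfsg.Agent.Lib.CosetEnum (allBelow allFrom)

theorem points_part64 : allFrom 30720 480 pointOk = true := by decide +kernel

theorem points_part65 : allFrom 31200 480 pointOk = true := by decide +kernel

theorem points_part66 : allFrom 31680 480 pointOk = true := by decide +kernel

theorem points_part67 : allFrom 32160 480 pointOk = true := by decide +kernel

theorem points_part68 : allFrom 32640 480 pointOk = true := by decide +kernel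

theorem points_part69 : allFrom 33120 480 pointOk = true := by decide +kernel

theorem points_part70 : allFrom 33600 480 pointOk = true := by decide +kernel

theorem points_part71 : allFrom 34080 480 pointOk = true := by decide +kernel

theorem points_part72 : allFrom 34560 480 pointOk = true := by decide +kernel

theorem points_part73 : allFrom 35040 480 pointOk = true := by decide +kernel

theorem points_part74 : allFrom 35520 480 pointOk = true := by decide +kernel

theorem points_part75 : allFrom 36000 480 pointOk = true := by decide +kernel

theorem points_part76 : allFrom 36480 480 pointOk = true := by decide +kernel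

theorem points_part77 : allFrom 36960 480 pointOk = true := by decide +kernel

theorem points_part78 : allFrom 37440 480 pointOk = true := by decide +kernel

theorem points_part79 : allFrom 37920 480 pointOk = true := by decide +kernel

/-- The points checked in this file. -/
theorem range4 : ∀ i, 30720 ≤ i → i < 38400 → pointOk i = true := by
  intro i h1 h2
  by_cases h : i < 31200
  · exact CosetEnum.allFrom_iff.1 points_part64 i (by omega) (by omega)
  by_cases h : i < 31680
  · exact CosetEnum.allFrom_iff.1 points_part65 i (by omega) (by omega)
  by_cases h : i < 32160
  · exact CosetEnum.allFrom_iff.1 points_part66 i (by omega) (by omega)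
  by_cases h : i < 32640
  · exact CosetEnum.allFrom_iff.1 points_part67 i (by omega) (by omega)
  by_cases h : i < 33120
  · exact CosetEnum.allFrom_iff.1 points_part68 i (by omega) (by omega)
  by_cases h : i < 33600
  · exact CosetEnum.allFrom_iff.1 points_part69 i (by omega) (by omega)
  by_cases h : i < 34080
  · exact CosetEnum.allFrom_iff.1 points_part70 i (by omega) (by omega)
  by_cases h : i < 34560
  · exact CosetEnum.allFrom_iff.1 points_part71 i (by omega) (by omega)
  by_cases h : i < 35040
  · exact CosetEnum.allFrom_iff.1 points_part72 i (by omega) (by omega)
  by_cases h : i < 35520
  · exact CosetEnum.allFrom_iff.1 points_part73 i (by omega) (by omega)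
  by_cases h : i < 36000
  · exact CosetEnum.allFrom_iff.1 points_part74 i (by omega) (by omega)
  by_cases h : i < 36480
  · exact CosetEnum.allFrom_iff.1 points_part75 i (by omega) (by omega)
  by_cases h : i < 36960
  · exact CosetEnum.allFrom_iff.1 points_part76 i (by omega) (by omega)
  by_cases h : i < 37440
  · exact CosetEnum.allFrom_iff.1 points_part77 i (by omega) (by omega)
  by_cases h : i < 37920
  · exact CosetEnum.allFrom_iff.1 points_part78 i (by omega) (by omega)
  exact CosetEnum.allFrom_iff.1 points_part79 i (by omega) (by omega)

end Cfsg.Agent.Lib.Fi24
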