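import Cfsg.Agent.Lib.Fi24.Points

/-! Checks of the certificate, part 5. -/

set_option autoImplicit false
set_option maxRecDepth 20000
set_option Elab.async false

namespace Cfsg.Agent.Lib.Fi24

open Cfsg.Agent.Lib.CosetEnum (allBelow allFrom)

theorem points_part80 : allFrom 38400 480 pointOk = true := by decide +kernel

theorem points_part81 : allFrom 38880 480 pointOk = true := by decide +kernel

theorem points_part82 : allFrom 39360 480 pointOk = true := by decide +kernel

theorem points_part83 : allFrom 39840 480 pointOk = true := by decide +kernel

theorem points_part84 : allFrom 40320 480 pointOk = true := by decide +kernel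

theorem points_part85 : allFrom 40800 480 pointOk = true := by decide +kernel

theorem points_part86 : allFrom 41280 480 pointOk = true := by decide +kernel

theorem points_part87 : allFrom 41760 480 pointOk = true := by decide +kernel

theorem points_part88 : allFrom 42240 480 pointOk = true := by decide +kernel

theorem points_part89 : allFrom 42720 480 pointOk = true := by decide +kernel

theorem points_part90 : allFrom 43200 480 pointOk = true := by decide +kernel

theorem points_part91 : allFrom 43680 480 pointOk = true := by decide +kernel

theorem points_part92 : allFrom 44160 480 pointOk = true := by decide +kernel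

theorem points_part93 : allFrom 44640 480 pointOk = true := by decide +kernel

theorem points_part94 : allFrom 45120 480 pointOk = true := by decide +kernel

theorem points_part95 : allFrom 45600 480 pointOk = true := by decide +kernel

/-- The points checked in this file. -/
theorem range5 : ∀ i, 38400 ≤ i → i < 46080 → pointOk i = true := by
  intro i h1 h2
  by_cases h : i < 38880
  · exact CosetEnum.allFrom_iff.1 points_part80 i (by omega) (by omega)
  by_cases h : i < 39360
  · exact CosetEnum.allFrom_iff.1 points_part81 i (by omega) (by omega)
  by_cases h : i < 39840
  · exact CosetEnum.allFrom_iff.1 points_part82 i (by omega) (by omega)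
  by_cases h : i < 40320
  · exact CosetEnum.allFrom_iff.1 points_part83 i (by omega) (by omega)
  by_cases h : i < 40800
  · exact CosetEnum.allFrom_iff.1 points_part84 i (by omega) (by omega)
  by_cases h : i < 41280
  · exact CosetEnum.allFrom_iff.1 points_part85 i (by omega) (by omega)
  by_cases h : i < 41760
  · exact CosetEnum.allFrom_iff.1 points_part86 i (by omega) (by omega)
  by_cases h : i < 42240
  · exact CosetEnum.allFrom_iff.1 points_part87 i (by omega) (by omega)
  by_cases h : i < 42720
  · exact CosetEnum.allFrom_iff.1 points_part88 i (by omega) (by omega)
  by_cases h : i < 43200
  · exact CosetEnum.allFrom_iff.1 points_part89 i (by omega) (by omega)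
  by_cases h : i < 43680
  · exact CosetEnum.allFrom_iff.1 points_part90 i (by omega) (by omega)
  by_cases h : i < 44160
  · exact CosetEnum.allFrom_iff.1 points_part91 i (by omega) (by omega)
  by_cases h : i < 44640
  · exact CosetEnum.allFrom_iff.1 points_part92 i (by omega) (by omega)
  by_cases h : i < 45120
  · exact CosetEnum.allFrom_iff.1 points_part93 i (by omega) (by omega)
  by_cases h : i < 45600
  · exact CosetEnum.allFrom_iff.1 points_part94 i (by omega) (by omega)
  exact CosetEnum.allFrom_iff.1 points_part95 i (by omega) (by omega)

end Cfsg.Agent.Lib.Fi24
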