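import Cfsg.Agent.Lib.Fi24.Points

/-! Checks of the certificate, part 6. -/

set_option autoImplicit false
set_option maxRecDepth 20000
set_option Elab.async false

namespace Cfsg.Agent.Lib.Fi24

open Cfsg.Agent.Lib.CosetEnum (allBelow allFrom)

theorem points_part96 : allFrom 46080 480 pointOk = true := by decide +kernel

theorem points_part97 : allFrom 46560 480 pointOk = true := by decide +kernel

theorem points_part98 : allFrom 47040 480 pointOk = true := by decide +kernel

theorem points_part99 : allFrom 47520 480 pointOk = true := by decide +kernel

theorem points_part100 : allFrom 48000 480 pointOk = true := by decide +kernel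

theorem points_part101 : allFrom 48480 480 pointOk = true := by decide +kernel

theorem points_part102 : allFrom 48960 480 pointOk = true := by decide +kernel

theorem points_part103 : allFrom 49440 480 pointOk = true := by decide +kernel

theorem points_part104 : allFrom 49920 480 pointOk = true := by decide +kernel

theorem points_part105 : allFrom 50400 480 pointOk = true := by decide +kernel

theorem points_part106 : allFrom 50880 480 pointOk = true := by decide +kernel

theorem points_part107 : allFrom 51360 480 pointOk = true := by decide +kernel

theorem points_part108 : allFrom 51840 480 pointOk = true := by decide +kernel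

theorem points_part109 : allFrom 52320 480 pointOk = true := by decide +kernel

theorem points_part110 : allFrom 52800 480 pointOk = true := by decide +kernel

theorem points_part111 : allFrom 53280 480 pointOk = true := by decide +kernel

/-- The points checked in this file. -/
theorem range6 : ∀ i, 46080 ≤ i → i < 53760 → pointOk i = true := by
  intro i h1 h2
  by_cases h : i < 46560
  · exact CosetEnum.allFrom_iff.1 points_part96 i (by omega) (by omega)
  by_cases h : i < 47040
  · exact CosetEnum.allFrom_iff.1 points_part97 i (by omega) (by omega)
  by_cases h : i < 47520
  · exact CosetEnum.allFrom_iff.1 points_part98 i (by omega) (by omega)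
  by_cases h : i < 48000
  · exact CosetEnum.allFrom_iff.1 points_part99 i (by omega) (by omega)
  by_cases h : i < 48480
  · exact CosetEnum.allFrom_iff.1 points_part100 i (by omega) (by omega)
  by_cases h : i < 48960
  · exact CosetEnum.allFrom_iff.1 points_part101 i (by omega) (by omega)
  by_cases h : i < 49440
  · exact CosetEnum.allFrom_iff.1 points_part102 i (by omega) (by omega)
  by_cases h : i < 49920
  · exact CosetEnum.allFrom_iff.1 points_part103 i (by omega) (by omega)
  by_cases h : i < 50400
  · exact CosetEnum.allFrom_iff.1 points_part104 i (by omega) (by omega)
  by_cases h : i < 50880
  · exact CosetEnum.allFrom_iff.1 points_part105 i (by omega) (by omega)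
  by_cases h : i < 51360
  · exact CosetEnum.allFrom_iff.1 points_part106 i (by omega) (by omega)
  by_cases h : i < 51840
  · exact CosetEnum.allFrom_iff.1 points_part107 i (by omega) (by omega)
  by_cases h : i < 52320
  · exact CosetEnum.allFrom_iff.1 points_part108 i (by omega) (by omega)
  by_cases h : i < 52800
  · exact CosetEnum.allFrom_iff.1 points_part109 i (by omega) (by omega)
  by_cases h : i < 53280
  · exact CosetEnum.allFrom_iff.1 points_part110 i (by omega) (by omega)
  exact CosetEnum.allFrom_iff.1 points_part111 i (by omega) (by omega)

end Cfsg.Agent.Lib.Fi24
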