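import Cfsg.Agent.Lib.Fi24.Points

/-! Checks of the certificate, part 7. -/

set_option autoImplicit false
set_option maxRecDepth 20000
set_option Elab.async false

namespace Cfsg.Agent.Lib.Fi24

open Cfsg.Agent.Lib.CosetEnum (allBelow allFrom)

theorem points_part112 : allFrom 53760 480 pointOk = true := by decide +kernel

theorem points_part113 : allFrom 54240 480 pointOk = true := by decide +kernel

theorem points_part114 : allFrom 54720 480 pointOk = true := by decide +kernel

theorem points_part115 : allFrom 55200 480 pointOk = true := by decide +kernel

theorem points_part116 : allFrom 55680 480 pointOk = true := by decide +kernel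

theorem points_part117 : allFrom 56160 480 pointOk = true := by decide +kernel

theorem points_part118 : allFrom 56640 480 pointOk = true := by decide +kernel

theorem points_part119 : allFrom 57120 480 pointOk = true := by decide +kernel

theorem points_part120 : allFrom 57600 480 pointOk = true := by decide +kernel

theorem points_part121 : allFrom 58080 480 pointOk = true := by decide +kernel

theorem points_part122 : allFrom 58560 480 pointOk = true := by decide +kernel

theorem points_part123 : allFrom 59040 480 pointOk = true := by decide +kernel

theorem points_part124 : allFrom 59520 480 pointOk = true := by decide +kernel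

theorem points_part125 : allFrom 60000 480 pointOk = true := by decide +kernel

theorem points_part126 : allFrom 60480 480 pointOk = true := by decide +kernel

theorem points_part127 : allFrom 60960 480 pointOk = true := by decide +kernel

/-- The points checked in this file. -/
theorem range7 : ∀ i, 53760 ≤ i → i < 61440 → pointOk i = true := by
  intro i h1 h2
  by_cases h : i < 54240
  · exact CosetEnum.allFrom_iff.1 points_part112 i (by omega) (by omega)
  by_cases h : i < 54720
  · exact CosetEnum.allFrom_iff.1 points_part113 i (by omega) (by omega)
  by_cases h : i < 55200
  · exact CosetEnum.allFrom_iff.1 points_part114 i (by omega) (by omega)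
  by_cases h : i < 55680
  · exact CosetEnum.allFrom_iff.1 points_part115 i (by omega) (by omega)
  by_cases h : i < 56160
  · exact CosetEnum.allFrom_iff.1 points_part116 i (by omega) (by omega)
  by_cases h : i < 56640
  · exact CosetEnum.allFrom_iff.1 points_part117 i (by omega) (by omega)
  by_cases h : i < 57120
  · exact CosetEnum.allFrom_iff.1 points_part118 i (by omega) (by omega)
  by_cases h : i < 57600
  · exact CosetEnum.allFrom_iff.1 points_part119 i (by omega) (by omega)
  by_cases h : i < 58080
  · exact CosetEnum.allFrom_iff.1 points_part120 i (by omega) (by omega)
  by_cases h : i < 58560
  · exact CosetEnum.allFrom_iff.1 points_part121 i (by omega) (by omega)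
  by_cases h : i < 59040
  · exact CosetEnum.allFrom_iff.1 points_part122 i (by omega) (by omega)
  by_cases h : i < 59520
  · exact CosetEnum.allFrom_iff.1 points_part123 i (by omega) (by omega)
  by_cases h : i < 60000
  · exact CosetEnum.allFrom_iff.1 points_part124 i (by omega) (by omega)
  by_cases h : i < 60480
  · exact CosetEnum.allFrom_iff.1 points_part125 i (by omega) (by omega)
  by_cases h : i < 60960
  · exact CosetEnum.allFrom_iff.1 points_part126 i (by omega) (by omega)
  exact CosetEnum.allFrom_iff.1 points_part127 i (by omega) (by omega)

end Cfsg.Agent.Lib.Fi24
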