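import Cfsg.Agent.Lib.Fi24.Points

/-! Checks of the certificate, part 8. -/

set_option autoImplicit false
set_option maxRecDepth 20000
set_option Elab.async false

namespace Cfsg.Agent.Lib.Fi24

open Cfsg.Agent.Lib.CosetEnum (allBelow allFrom)

theorem points_part128 : allFrom 61440 480 pointOk = true := by decide +kernel

theorem points_part129 : allFrom 61920 480 pointOk = true := by decide +kernel

theorem points_part130 : allFrom 62400 480 pointOk = true := by decide +kernel

theorem points_part131 : allFrom 62880 480 pointOk = true := by decide +kernel

theorem points_part132 : allFrom 63360 480 pointOk = true := by decide +kernel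

theorem points_part133 : allFrom 63840 480 pointOk = true := by decide +kernel

theorem points_part134 : allFrom 64320 480 pointOk = true := by decide +kernel

theorem points_part135 : allFrom 64800 480 pointOk = true := by decide +kernel

theorem points_part136 : allFrom 65280 480 pointOk = true := by decide +kernel

theorem points_part137 : allFrom 65760 480 pointOk = true := by decide +kernel

theorem points_part138 : allFrom 66240 480 pointOk = true := by decide +kernel

theorem points_part139 : allFrom 66720 480 pointOk = true := by decide +kernel

theorem points_part140 : allFrom 67200 480 pointOk = true := by decide +kernel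

theorem points_part141 : allFrom 67680 480 pointOk = true := by decide +kernel

theorem points_part142 : allFrom 68160 480 pointOk = true := by decide +kernel

theorem points_part143 : allFrom 68640 480 pointOk = true := by decide +kernel

/-- The points checked in this file. -/
theorem range8 : ∀ i, 61440 ≤ i → i < 69120 → pointOk i = true := by
  intro i h1 h2
  by_cases h : i < 61920
  · exact CosetEnum.allFrom_iff.1 points_part128 i (by omega) (by omega)
  by_cases h : i < 62400
  · exact CosetEnum.allFrom_iff.1 points_part129 i (by omega) (by omega)
  by_cases h : i < 62880
  · exact CosetEnum.allFrom_iff.1 points_part130 i (by omega) (by omega)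
  by_cases h : i < 63360
  · exact CosetEnum.allFrom_iff.1 points_part131 i (by omega) (by omega)
  by_cases h : i < 63840
  · exact CosetEnum.allFrom_iff.1 points_part132 i (by omega) (by omega)
  by_cases h : i < 64320
  · exact CosetEnum.allFrom_iff.1 points_part133 i (by omega) (by omega)
  by_cases h : i < 64800
  · exact CosetEnum.allFrom_iff.1 points_part134 i (by omega) (by omega)
  by_cases h : i < 65280
  · exact CosetEnum.allFrom_iff.1 points_part135 i (by omega) (by omega)
  by_cases h : i < 65760
  · exact CosetEnum.allFrom_iff.1 points_part136 i (by omega) (by omega)
  by_cases h : i < 66240
  · exact CosetEnum.allFrom_iff.1 points_part137 i (by omega) (by omega)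
  by_cases h : i < 66720
  · exact CosetEnum.allFrom_iff.1 points_part138 i (by omega) (by omega)
  by_cases h : i < 67200
  · exact CosetEnum.allFrom_iff.1 points_part139 i (by omega) (by omega)
  by_cases h : i < 67680
  · exact CosetEnum.allFrom_iff.1 points_part140 i (by omega) (by omega)
  by_cases h : i < 68160
  · exact CosetEnum.allFrom_iff.1 points_part141 i (by omega) (by omega)
  by_cases h : i < 68640
  · exact CosetEnum.allFrom_iff.1 points_part142 i (by omega) (by omega)
  exact CosetEnum.allFrom_iff.1 points_part143 i (by omega) (by omega)

end Cfsg.Agent.Lib.Fi24
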