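import Cfsg.Agent.Lib.Fi24.Points

/-! Checks of the certificate, part 9. -/

set_option autoImplicit false
set_option maxRecDepth 20000
set_option Elab.async false

namespace Cfsg.Agent.Lib.Fi24

open Cfsg.Agent.Lib.CosetEnum (allBelow allFrom)

theorem points_part144 : allFrom 69120 480 pointOk = true := by decide +kernel

theorem points_part145 : allFrom 69600 480 pointOk = true := by decide +kernel

theorem points_part146 : allFrom 70080 480 pointOk = true := by decide +kernel

theorem points_part147 : allFrom 70560 480 pointOk = true := by decide +kernel

theorem points_part148 : allFrom 71040 480 pointOk = true := by decide +kernel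

theorem points_part149 : allFrom 71520 480 pointOk = true := by decide +kernel

theorem points_part150 : allFrom 72000 480 pointOk = true := by decide +kernel

theorem points_part151 : allFrom 72480 480 pointOk = true := by decide +kernel

theorem points_part152 : allFrom 72960 480 pointOk = true := by decide +kernel

theorem points_part153 : allFrom 73440 480 pointOk = true := by decide +kernel

theorem points_part154 : allFrom 73920 480 pointOk = true := by decide +kernel

theorem points_part155 : allFrom 74400 480 pointOk = true := by decide +kernel

theorem points_part156 : allFrom 74880 480 pointOk = true := by decide +kernel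

theorem points_part157 : allFrom 75360 480 pointOk = true := by decide +kernel

theorem points_part158 : allFrom 75840 480 pointOk = true := by decide +kernel

theorem points_part159 : allFrom 76320 480 pointOk = true := by decide +kernel

/-- The points checked in this file. -/
theorem range9 : ∀ i, 69120 ≤ i → i < 76800 → pointOk i = true := by
  intro i h1 h2
  by_cases h : i < 69600
  · exact CosetEnum.allFrom_iff.1 points_part144 i (by omega) (by omega)
  by_cases h : i < 70080
  · exact CosetEnum.allFrom_iff.1 points_part145 i (by omega) (by omega)
  by_cases h : i < 70560
  · exact CosetEnum.allFrom_iff.1 points_part146 i (by omega) (by omega)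
  by_cases h : i < 71040
  · exact CosetEnum.allFrom_iff.1 points_part147 i (by omega) (by omega)
  by_cases h : i < 71520
  · exact CosetEnum.allFrom_iff.1 points_part148 i (by omega) (by omega)
  by_cases h : i < 72000
  · exact CosetEnum.allFrom_iff.1 points_part149 i (by omega) (by omega)
  by_cases h : i < 72480
  · exact CosetEnum.allFrom_iff.1 points_part150 i (by omega) (by omega)
  by_cases h : i < 72960
  · exact CosetEnum.allFrom_iff.1 points_part151 i (by omega) (by omega)
  by_cases h : i < 73440
  · exact CosetEnum.allFrom_iff.1 points_part152 i (by omega) (by omega)
  by_cases h : i < 73920
  · exact CosetEnum.allFrom_iff.1 points_part153 i (by omega) (by omega)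
  by_cases h : i < 74400
  · exact CosetEnum.allFrom_iff.1 points_part154 i (by omega) (by omega)
  by_cases h : i < 74880
  · exact CosetEnum.allFrom_iff.1 points_part155 i (by omega) (by omega)
  by_cases h : i < 75360
  · exact CosetEnum.allFrom_iff.1 points_part156 i (by omega) (by omega)
  by_cases h : i < 75840
  · exact CosetEnum.allFrom_iff.1 points_part157 i (by omega) (by omega)
  by_cases h : i < 76320
  · exact CosetEnum.allFrom_iff.1 points_part158 i (by omega) (by omega)
  exact CosetEnum.allFrom_iff.1 points_part159 i (by omega) (by omega)

end Cfsg.Agent.Lib.Fi24
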